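import Groth.Prelude.Def_FlatCA
import Groth.Agent.Lib.SmoothRed.Basic
import Mathlib

/-!
# Fibres of smooth algebras with geometrically irreducible fibres
-/

set_option autoImplicit false

universe u

open TensorProduct AlgebraicGeometry CategoryTheory

set_option backward.isDefEq.respectTransparency.types false

namespace Groth.Agent.RG4

theorem geomIrredFibres_baseChange {R S : Type u} [CommRing R] [CommRing S] [Algebra R S] (T : Type u)
    [CommRing T] [Algebra R T] (h : FlatCA.GeomIrredFibres R S) : FlatCA.GeomIrredFibres T (T ⊗[R] S) := by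
  have h1 := isPullback_SpecMap_of_isPushout _ _ _ _ (CommRingCat.isPushout_tensorProduct R T S).flip
  exact MorphismProperty.of_isPullback (P := @GeometricallyIrreducible) h1 h

/-- Fibres of smooth algebras with geometrically irreducible fibres are domains. -/
theorem isDomain_fiber_of_smooth {R S : Type u} [CommRing R] [CommRing S] [Algebra R S] [Algebra.Smooth R S]
    (h : FlatCA.GeomIrredFibres R S) (p : Ideal R) [p.IsPrime] : IsDomain (p.Fiber S) := by
  haveI : Algebra.Smooth p.ResidueField (p.Fiber S) := inferInstanceAs (Algebra.Smooth _ (p.ResidueField ⊗[R] S))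
  haveI : _root_.IsReduced (p.Fiber S) := SmoothRed.isReduced_of_smooth_field p.ResidueField (p.Fiber S)
  haveI hg : GeometricallyIrreducible (Spec.map (CommRingCat.ofHom (algebraMap p.ResidueField (p.Fiber S)))) :=
    geomIrredFibres_baseChange p.ResidueField h
  haveI hi : IrreducibleSpace (PrimeSpectrum (p.Fiber S)) := by
    exact GeometricallyIrreducible.irreducibleSpace_of_subsingleton
      (Spec.map (CommRingCat.ofHom (algebraMap p.ResidueField (p.Fiber S))))
  haveI : Nontrivial (p.Fiber S) := PrimeSpectrum.nonempty_iff_nontrivial.1 hi.toNonempty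
  haveI : (⊥ : Ideal (p.Fiber S)).IsPrime := by
    have := PrimeSpectrum.irreducibleSpace_iff_isPrime_nilradical.1 hi
    rwa [nilradical_eq_zero] at this
  exact IsDomain.of_bot_isPrime _

/-- A closed fibre which is a domain makes the extension of the maximal ideal prime. -/
theorem isPrime_map_maximalIdeal {R S : Type u} [CommRing R] [IsLocalRing R] [CommRing S] [Algebra R S]
    (h : IsDomain ((IsLocalRing.maximalIdeal R).Fiber S)) :
    ((IsLocalRing.maximalIdeal R).map (algebraMap R S)).IsPrime := by
  set m := IsLocalRing.maximalIdeal R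
  let e : (R ⧸ m) ≃ₐ[R] m.ResidueField :=
    AlgEquiv.ofBijective (IsScalarTower.toAlgHom R (R ⧸ m) m.ResidueField)
      (Ideal.bijective_algebraMap_quotient_residueField m)
  let e' : (S ⧸ m.map (algebraMap R S)) ≃+* m.Fiber S :=
    (Algebra.TensorProduct.quotIdealMapEquivQuotTensor S m).toRingEquiv.trans
      (Algebra.TensorProduct.congr e AlgEquiv.refl).toRingEquiv
  haveI : IsDomain (S ⧸ m.map (algebraMap R S)) := e'.toMulEquiv.isDomain _
  exact (Ideal.Quotient.isDomain_iff_prime _).1 this

end Groth.Agent.RG4
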