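import Groth.Agent.Lib.RG4.FibreSupp
import Groth.Agent.Lib.CI2.FibAss
import Groth.Agent.Lib.GeomNbhd4.FibreSupport

/-!
# The generic point of an integral fibre

If the extension `P` of a prime `p` to `D` is a prime over `p`, the fibre ring is a domain; a finite
module has full support in the fibre exactly when it does not vanish at `P`.
-/

set_option autoImplicit false

universe u

open TensorProduct

set_option backward.isDefEq.respectTransparency.types false

attribute [local instance] Algebra.TensorProduct.rightAlgebra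

namespace Groth.Agent.RG4

variable {R D : Type u} [CommRing R] [CommRing D] [Algebra R D] (p : Ideal R) [p.IsPrime]

/-- The point of the fibre given by a prime lying over `p` pulls back to that prime. -/
theorem exists_fiber_point (P : Ideal D) [P.IsPrime] [P.LiesOver p] :
    ∃ Q : PrimeSpectrum (p.Fiber D), Q.asIdeal.comap (algebraMap D (p.Fiber D)) = P := by
  let eF := PrimeSpectrum.primesOverOrderIsoFiber R D p
  refine ⟨eF ⟨P, inferInstance, inferInstance⟩, ?_⟩
  exact congrArg Subtype.val (eF.symm_apply_apply ⟨P, inferInstance, inferInstance⟩)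

/-- If `pD` is a prime over `p` the fibre ring is a domain. -/
theorem isDomain_fiber [(p.map (algebraMap R D)).IsPrime] [(p.map (algebraMap R D)).LiesOver p] :
    IsDomain (p.Fiber D) ∧
      (⊥ : Ideal (p.Fiber D)).comap (algebraMap D (p.Fiber D)) = p.map (algebraMap R D) := by
  set P := p.map (algebraMap R D)
  obtain ⟨Q, hQ⟩ := exists_fiber_point p P
  have hzero : P ≤ (⊥ : Ideal (p.Fiber D)).comap (algebraMap D (p.Fiber D)) := by
    rw [Ideal.map_le_iff_le_comap]
    intro s hs
    exact CI2.FibAss.inc_eq_zero p hs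
  have hker : (⊥ : Ideal (p.Fiber D)).comap (algebraMap D (p.Fiber D)) = P :=
    le_antisymm ((Ideal.comap_mono bot_le).trans hQ.le) hzero
  haveI : Nontrivial (p.Fiber D) := by
    by_contra h
    rw [not_nontrivial_iff_subsingleton] at h
    exact Q.isPrime.ne_top (Subsingleton.elim _ _)
  haveI : NoZeroDivisors (p.Fiber D) := by
    refine ⟨fun {f g} hfg => ?_⟩
    obtain ⟨s, hs, a, ha⟩ := CI2.FibAss.fib_frac p f
    obtain ⟨t, ht, b, hb⟩ := CI2.FibAss.fib_frac p g
    have hab : a * b ∈ P := by
      rw [← hker]
      show algebraMap D (p.Fiber D) (a * b) = 0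
      show CI2.FibAss.inc p (a * b) = 0
      rw [map_mul, ← ha, ← hb, mul_mul_mul_comm, hfg, mul_zero]
    rcases ‹P.IsPrime›.mem_or_mem hab with h | h
    · refine Or.inl ((CI2.FibAss.isUnit_inc p hs).mul_right_eq_zero.1 ?_)
      rw [ha]; exact hzero h
    · refine Or.inr ((CI2.FibAss.isUnit_inc p ht).mul_right_eq_zero.1 ?_)
      rw [hb]; exact hzero h
  exact ⟨NoZeroDivisors.to_isDomain _, hker⟩

variable (M : Type u) [AddCommGroup M] [Module D M] [Module R M] [IsScalarTower R D M] [Module.Finite D M]

/-- If the fibre module vanishes at the generic point the dimension of its support drops. -/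
theorem supportDim_lt_of_subsingleton [(p.map (algebraMap R D)).IsPrime] [(p.map (algebraMap R D)).LiesOver p]
    (n : ℕ) (hD : ringKrullDim (p.Fiber D) ≤ n)
    (h : Subsingleton ((p.map (algebraMap R D)).ResidueField ⊗[D] M)) :
    Module.supportDim (p.Fiber D) (FlatCA.fiberMod p D M) < n := by
  obtain ⟨_, hker⟩ := isDomain_fiber (D := D) p
  haveI : Module.Finite (p.Fiber D) (FlatCA.fiberMod p D M) := Module.Finite.base_change D (p.Fiber D) M
  refine supportDim_lt n hD fun hann => ?_
  have h1 : (⟨⊥, Ideal.isPrime_bot⟩ : PrimeSpectrum (p.Fiber D)) ∈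
      Module.support (p.Fiber D) (FlatCA.fiberMod p D M) := Module.mem_support_iff_of_finite.2 hann.le
  rw [GeomNbhd4.mem_support_fiberMod_iff, hker] at h1
  have h2 : (⟨p.map (algebraMap R D), inferInstance⟩ : PrimeSpectrum D) ∈ Module.support D M :=
    Module.mem_support_iff_of_finite.2 h1
  rw [Module.mem_support_iff_nontrivial_residueField_tensorProduct] at h2
  exact not_subsingleton _ h

/-- If the support of the fibre module has full dimension it does not vanish at the generic point. -/
theorem nontrivial_of_le_supportDim [(p.map (algebraMap R D)).IsPrime] [(p.map (algebraMap R D)).LiesOver p]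
    (n : ℕ) (hD : ringKrullDim (p.Fiber D) ≤ n)
    (h : (n : WithBot ℕ∞) ≤ Module.supportDim (p.Fiber D) (FlatCA.fiberMod p D M)) :
    Nontrivial ((p.map (algebraMap R D)).ResidueField ⊗[D] M) := by
  obtain ⟨_, hker⟩ := isDomain_fiber (D := D) p
  haveI : Module.Finite (p.Fiber D) (FlatCA.fiberMod p D M) := Module.Finite.base_change D (p.Fiber D) M
  have hann := annihilator_eq_bot n hD h
  have h1 : (⟨⊥, Ideal.isPrime_bot⟩ : PrimeSpectrum (p.Fiber D)) ∈
      Module.support (p.Fiber D) (FlatCA.fiberMod p D M) := Module.mem_support_iff_of_finite.2 hann.le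
  rw [GeomNbhd4.mem_support_fiberMod_iff, hker] at h1
  exact (Module.mem_support_iff_nontrivial_residueField_tensorProduct (M := M) ⟨p.map (algebraMap R D), inferInstance⟩).1
    (Module.mem_support_iff_of_finite.2 h1)

/-- A prime extension lies over `p` as soon as some fibre module over `p` is nonzero. -/
theorem liesOver_of_nonempty [(p.map (algebraMap R D)).IsPrime] (h : Nontrivial (p.Fiber D)) :
    (p.map (algebraMap R D)).LiesOver p := by
  obtain ⟨Q, hQ⟩ := Ideal.exists_maximal (p.Fiber D)
  have hq := (PrimeSpectrum.primesOverOrderIsoFiber R D p).symm ⟨Q, hQ.isPrime⟩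
  refine ⟨le_antisymm Ideal.le_comap_map fun r hr => ?_⟩
  have : p.map (algebraMap R D) ≤ hq.1 := Ideal.map_le_iff_le_comap.2 hq.2.2.over.le
  exact hq.2.2.over.ge (this hr)

end Groth.Agent.RG4
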