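import Groth.Prelude.Def_FlatCA
import Mathlib

/-!
# Localisation, universal injectivity and flatness over the base
-/

set_option autoImplicit false

universe u

open TensorProduct

namespace Groth.Agent.RG4

variable {R S : Type u} [CommRing R] [CommRing S] [Algebra R S]

section

variable {A B C : Type u} [AddCommGroup A] [Module R A] [AddCommGroup B] [Module R B] [AddCommGroup C] [Module R C]

/-- The cokernel of a universally injective map into a flat module is flat. -/
theorem flat_of_univInj_exact [Module.Flat R B] {f : A →ₗ[R] B} {g : B →ₗ[R] C} (hg : Function.Surjective g)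
    (hfg : Function.Exact f g) (hf : FlatCA.UnivInj R f) : Module.Flat R C := by
  rw [Module.Flat.iff_rTensor_injective']
  intro I
  rw [injective_iff_map_eq_zero]
  intro x hx
  obtain ⟨y, rfl⟩ := LinearMap.lTensor_surjective I hg x
  have hy : g.lTensor R (I.subtype.rTensor B y) = 0 := by
    rw [← LinearMap.comp_apply, LinearMap.lTensor_comp_rTensor, ← LinearMap.rTensor_comp_lTensor, LinearMap.comp_apply, hx]
  obtain ⟨w, hw⟩ := ((lTensor_exact R hfg hg) (I.subtype.rTensor B y)).1 hy
  have hIq : Function.Exact (I.subtype.rTensor A) ((Submodule.mkQ I).rTensor A) :=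
    rTensor_exact A (LinearMap.exact_subtype_mkQ I) (Submodule.mkQ_surjective I)
  have hw0 : (Submodule.mkQ I).rTensor A w = 0 := by
    refine hf (R ⧸ I) ?_
    rw [map_zero, ← LinearMap.comp_apply, LinearMap.lTensor_comp_rTensor, ← LinearMap.rTensor_comp_lTensor,
      LinearMap.comp_apply, hw, ← LinearMap.rTensor_comp_apply,
      show (Submodule.mkQ I).comp I.subtype = 0 from LinearMap.ext fun i => (Submodule.Quotient.mk_eq_zero I).2 i.2,
      LinearMap.rTensor_zero, LinearMap.zero_apply]
  obtain ⟨v, rfl⟩ := (hIq w).1 hw0
  have h : f.lTensor I v = y := Module.Flat.rTensor_preserves_injective_linearMap (M := B) I.subtype I.injective_subtype (by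
    rw [← LinearMap.comp_apply, LinearMap.rTensor_comp_lTensor, ← LinearMap.lTensor_comp_rTensor, LinearMap.comp_apply, hw])
  rw [← h, ← LinearMap.lTensor_comp_apply, hfg.linearMap_comp_eq_zero, LinearMap.lTensor_zero, LinearMap.zero_apply]

/-- An extension of flat modules is flat. -/
theorem flat_of_exact [Module.Flat R A] [Module.Flat R C] {f : A →ₗ[R] B} {g : B →ₗ[R] C} (hg : Function.Surjective g)
    (hfg : Function.Exact f g) (hf : Function.Injective f) : Module.Flat R B := by
  rw [Module.Flat.iff_rTensor_injective']
  intro I
  rw [injective_iff_map_eq_zero]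
  intro y hy
  have h1 : g.lTensor I y = 0 := Module.Flat.rTensor_preserves_injective_linearMap (M := C) I.subtype I.injective_subtype (by
    rw [map_zero, ← LinearMap.comp_apply, LinearMap.rTensor_comp_lTensor, ← LinearMap.lTensor_comp_rTensor,
      LinearMap.comp_apply, hy, map_zero])
  obtain ⟨w, rfl⟩ := (lTensor_exact I hfg hg y).1 h1
  have h2 : I.subtype.rTensor A w = 0 := by
    have h3 : (f.lTensor R) (I.subtype.rTensor A w) = 0 := by
      rw [← LinearMap.comp_apply, LinearMap.lTensor_comp_rTensor, ← LinearMap.rTensor_comp_lTensor, LinearMap.comp_apply, hy]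
    refine Module.Flat.lTensor_preserves_injective_linearMap (M := R) f hf ?_
    rw [h3, map_zero]
  rw [Module.Flat.rTensor_preserves_injective_linearMap (M := A) I.subtype I.injective_subtype
    (h2.trans (map_zero _).symm), map_zero]

end

variable {A B : Type u} [AddCommGroup A] [Module S A] [Module R A] [IsScalarTower R S A]
  [AddCommGroup B] [Module S B] [Module R B] [IsScalarTower R S B] (T : Submonoid S)

/-- A localisation of a module flat over the base is flat over the base. -/
theorem flat_of_isLocalizedModule (g : A →ₗ[S] B) [IsLocalizedModule T g] [Module.Flat R A] : Module.Flat R B := by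
  rw [Module.Flat.iff_lTensor_preserves_injective_linearMap]
  intro N P _ _ _ _ l hl
  simpa [IsLocalizedModule.map_lTensor] using
    IsLocalizedModule.map_injective T (AlgebraTensorModule.rTensor R N g) (AlgebraTensorModule.rTensor R P g)
      (AlgebraTensorModule.lTensor S A l) (Module.Flat.lTensor_preserves_injective_linearMap l hl)

/-- Localisation preserves universal injectivity over the base. -/
theorem univInj_localizedModule_map {f : A →ₗ[S] B} (hf : FlatCA.UnivInj R (f.restrictScalars R)) :
    FlatCA.UnivInj R ((LocalizedModule.map T f).restrictScalars R) := by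
  intro Q _ _
  let ιA := LocalizedModule.mkLinearMap T A
  let ιB := LocalizedModule.mkLinearMap T B
  let gA := AlgebraTensorModule.rTensor R Q ιA
  let gB := AlgebraTensorModule.rTensor R Q ιB
  let fQ : A ⊗[R] Q →ₗ[S] B ⊗[R] Q := AlgebraTensorModule.rTensor R Q f
  let F : LocalizedModule T A →ₗ[S] LocalizedModule T B := IsLocalizedModule.map T ιA ιB f
  have hF : ∀ x, F x = LocalizedModule.map T f x := fun x => by
    induction x using LocalizedModule.induction_on with
    | h m s =>
      rw [show LocalizedModule.mk m s = IsLocalizedModule.mk' ιA m s from (IsLocalizedModule.mk_eq_mk' s m)]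
      show IsLocalizedModule.map T ιA ιB f _ = _
      rw [IsLocalizedModule.map_mk', ← IsLocalizedModule.mk_eq_mk', ← IsLocalizedModule.mk_eq_mk', LocalizedModule.map_mk]
  let FQ : LocalizedModule T A ⊗[R] Q →ₗ[S] LocalizedModule T B ⊗[R] Q := AlgebraTensorModule.rTensor R Q F
  have hFQ : FQ = IsLocalizedModule.map T gA gB fQ := by
    refine IsLocalizedModule.linearMap_ext T gA gB ?_
    rw [IsLocalizedModule.map_comp]
    refine LinearMap.ext fun z => ?_
    induction z using TensorProduct.induction_on with
    | zero => simp
    | add x y hx hy => simp only [map_add, hx, hy]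
    | tmul a q =>
      show F (ιA a) ⊗ₜ[R] q = ιB (f a) ⊗ₜ[R] q
      rw [IsLocalizedModule.map_apply]
  have hinjQ : Function.Injective fQ := by
    intro x y hxy
    apply (TensorProduct.comm R A Q).injective
    refine hf Q ?_
    have key : ∀ w, (f.restrictScalars R).lTensor Q (TensorProduct.comm R A Q w) = TensorProduct.comm R B Q (fQ w) := fun w => by
      induction w using TensorProduct.induction_on with
      | zero => simp
      | add a b ha hb => simp only [map_add, ha, hb]
      | tmul a q => rfl
    rw [key, key, hxy]
  have h := IsLocalizedModule.map_injective T gA gB fQ hinjQ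
  rw [← hFQ] at h
  intro x y hxy
  apply (TensorProduct.comm R (LocalizedModule T A) Q).symm.injective
  refine h ?_
  have key : ∀ w, FQ ((TensorProduct.comm R (LocalizedModule T A) Q).symm w) =
      (TensorProduct.comm R (LocalizedModule T B) Q).symm (((LocalizedModule.map T f).restrictScalars R).lTensor Q w) := fun w => by
    induction w using TensorProduct.induction_on with
    | zero => simp
    | add a b ha hb => simp only [map_add, ha, hb]
    | tmul q a =>
      show F a ⊗ₜ[R] q = LocalizedModule.map T f a ⊗ₜ[R] q
      rw [hF]
  rw [key, key, hxy]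

/-- Flatness at a prime passes to smaller primes. -/
theorem flatAt_of_le {N : Type u} [AddCommGroup N] [Module S N] [Module R N] [IsScalarTower R S N]
    {ξ q : Ideal S} [ξ.IsPrime] [q.IsPrime] (hle : ξ ≤ q) (h : FlatCA.FlatAt R q N) : FlatCA.FlatAt R ξ N := by
  haveI : Module.Flat R (LocalizedModule q.primeCompl N) := h
  exact flat_of_isLocalizedModule ξ.primeCompl
    (IsLocalizedModule.liftOfLE q.primeCompl ξ.primeCompl (fun s hs hsξ => hs (hle hsξ))
      (LocalizedModule.mkLinearMap q.primeCompl N) (LocalizedModule.mkLinearMap ξ.primeCompl N))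

/-- The cokernel of a universally injective map is flat where the target is. -/
theorem flatAt_coker {N : Type u} [AddCommGroup N] [Module S N] [Module R N] [IsScalarTower R S N] {F : Type u}
    [AddCommGroup F] [Module S F] [Module R F] [IsScalarTower R S F] (q : Ideal S) [q.IsPrime] (α : F →ₗ[S] N)
    (hα : FlatCA.UnivInj R (α.restrictScalars R)) (h : FlatCA.FlatAt R q N) :
    FlatCA.FlatAt R q (N ⧸ LinearMap.range α) := by
  haveI : Module.Flat R (LocalizedModule q.primeCompl N) := h
  exact flat_of_univInj_exact (f := (LocalizedModule.map q.primeCompl α).restrictScalars R)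
    (g := (LocalizedModule.map q.primeCompl (LinearMap.range α).mkQ).restrictScalars R)
    (LocalizedModule.map_surjective q.primeCompl _ (Submodule.mkQ_surjective _))
    (LocalizedModule.map_exact q.primeCompl α _ (LinearMap.exact_map_mkQ_range α))
    (univInj_localizedModule_map q.primeCompl hα)

end Groth.Agent.RG4
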