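import Groth.Agent.Lib.RG4.Proj
import Groth.Agent.Lib.RG4.LocFlat

/-!
# One step of the dévissage of a flat module
-/

set_option autoImplicit false

universe u

open IsLocalRing

set_option backward.isDefEq.respectTransparency.types false

namespace Groth.Agent.RG4

/-- Universal injectivity of the map of a step, and flatness of its cokernel. -/
theorem univInj_and_flatAt_coker {R B M : Type u} [CommRing R] [IsLocalRing R] [CommRing B] [Algebra R B]
    [Algebra.Smooth R B] [((maximalIdeal R).map (algebraMap R B)).IsPrime] [AddCommGroup M] [Module B M] [Module R M]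
    [IsScalarTower R B M] [Module.Finite B M] (hB : FlatCA.GeomIrredFibres R B) (q : Ideal B) [q.IsPrime]
    [q.LiesOver (maximalIdeal R)] (h : FlatCA.FlatAt R q M) {r : ℕ} (α : (Fin r → B) →ₗ[B] M)
    (hα : Function.Bijective (α.baseChange ((maximalIdeal R).map (algebraMap R B)).ResidueField)) :
    FlatCA.UnivInj R (α.restrictScalars R) ∧ FlatCA.FlatAt R q (M ⧸ LinearMap.range α) := by
  have hle : (maximalIdeal R).map (algebraMap R B) ≤ q :=
    Ideal.map_le_iff_le_comap.2 (Ideal.LiesOver.over (P := q) (p := maximalIdeal R)).le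
  have hu := univInj_localized hB (flatAt_of_le hle h) hα
  have hu' : FlatCA.UnivInj R (α.restrictScalars R) := fun Q _ _ => by
    refine Function.Injective.of_comp (f := ((LocalizedModule.mkLinearMap
      ((maximalIdeal R).map (algebraMap R B)).primeCompl M).restrictScalars R).lTensor Q) ?_
    rw [← LinearMap.coe_comp, ← LinearMap.lTensor_comp]
    exact hu Q
  exact ⟨hu', flatAt_coker q α hu' h⟩

/-- A step splits over the base once the cokernel is free. -/
theorem exists_equiv_prod {R B M X : Type u} [CommRing R] [CommRing B] [Algebra R B] [AddCommGroup M] [Module B M]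
    [Module R M] [IsScalarTower R B M] [AddCommGroup X] [Module R X] [Module.Projective R X] {r : ℕ}
    (α : (Fin r → B) →ₗ[B] M) (hα : Function.Injective α) (e : (M ⧸ LinearMap.range α) ≃ₗ[R] X) :
    Nonempty (M ≃ₗ[R] (Fin r → B) × X) := by
  let π : M →ₗ[R] X := e.toLinearMap ∘ₗ (LinearMap.range α).mkQ.restrictScalars R
  obtain ⟨σ, hσ⟩ := Module.projective_lifting_property π LinearMap.id
    (e.surjective.comp (Submodule.mkQ_surjective _))
  let F : (Fin r → B) × X →ₗ[R] M := (α.restrictScalars R).coprod σ
  have hπα : ∀ v, π (α v) = 0 := fun v => by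
    show e (Submodule.Quotient.mk (α v)) = 0
    rw [(Submodule.Quotient.mk_eq_zero (LinearMap.range α)).2 ⟨v, rfl⟩, map_zero]
  have hπσ : ∀ x, π (σ x) = x := fun x => LinearMap.congr_fun hσ x
  refine ⟨(LinearEquiv.ofBijective F ⟨?_, fun m => ?_⟩).symm⟩
  · rw [injective_iff_map_eq_zero]
    rintro ⟨v, x⟩ hvx
    have hvx' : α v + σ x = 0 := hvx
    have hx : x = 0 := by
      have := congrArg π hvx'
      rwa [map_add, hπα, zero_add, hπσ, map_zero] at this
    subst hx
    rw [map_zero, add_zero] at hvx'
    rw [hα (hvx'.trans (map_zero α).symm)]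
    rfl
  · have hm : m - σ (π m) ∈ LinearMap.range α := by
      rw [← Submodule.Quotient.mk_eq_zero]
      refine e.injective ?_
      show π (m - σ (π m)) = e 0
      rw [map_sub, hπσ, sub_self, map_zero]
    obtain ⟨v, hv⟩ := hm
    exact ⟨(v, π m), by show α v + σ (π m) = m; rw [hv, sub_add_cancel]⟩

/-- Localising at the only prime over a prime of a ring over which one is finite. -/
theorem isLocalizedModule_of_unique {B A M : Type u} [CommRing B] [CommRing A] [Algebra B A] [Algebra.IsIntegral B A]
    [AddCommGroup M] [Module A M] [Module B M] [IsScalarTower B A M] (qA : Ideal A) [qA.IsPrime] (qB : Ideal B)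
    [qB.IsPrime] [qA.LiesOver qB] (huniq : ∀ (Q : Ideal A) [Q.IsPrime], Q.LiesOver qB → Q = qA) :
    IsLocalizedModule qB.primeCompl ((LocalizedModule.mkLinearMap qA.primeCompl M).restrictScalars B) := by
  let ι := LocalizedModule.mkLinearMap qA.primeCompl M
  have hex : ∀ a : qA.primeCompl, ∃ (b : qB.primeCompl) (c : A), algebraMap B A b = c * a := by
    intro a
    by_contra hc
    push Not at hc
    obtain ⟨Q, haQ, hQp, hQ⟩ := Ideal.exists_ideal_over_prime_of_isIntegral qB (Ideal.span {(a : A)}) (fun b hb => by
      by_contra hbq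
      obtain ⟨c, hc'⟩ := Ideal.mem_span_singleton'.1 (Ideal.mem_comap.1 hb)
      exact hc ⟨b, hbq⟩ c hc'.symm)
    exact a.2 ((huniq Q ⟨hQ.symm⟩).le (haQ (Ideal.mem_span_singleton_self _)))
  have hmem : ∀ b : qB.primeCompl, algebraMap B A b ∈ qA.primeCompl := fun b hb =>
    b.2 ((Ideal.LiesOver.over (P := qA) (p := qB)).ge hb)
  refine ⟨fun b => ?_, fun x => ?_, fun {x₁ x₂} h => ?_⟩
  · refine (Module.End.isUnit_iff _).2 ?_
    have h := (Module.End.isUnit_iff _).1 (IsLocalizedModule.map_units ι ⟨_, hmem b⟩)
    convert h using 1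
    funext x
    show (b : B) • x = algebraMap B A b • x
    rw [algebraMap_smul]
  · obtain ⟨⟨m, a⟩, hma⟩ := IsLocalizedModule.surj qA.primeCompl ι x
    obtain ⟨b, c, hbc⟩ := hex a
    refine ⟨⟨c • m, b⟩, ?_⟩
    show (b : B) • x = ι (c • m)
    rw [← algebraMap_smul A (b : B) x, hbc, mul_smul, map_smul, ← hma]
    rfl
  · obtain ⟨a, ha⟩ := IsLocalizedModule.exists_of_eq (S := qA.primeCompl) (f := ι) h
    obtain ⟨b, c, hbc⟩ := hex a
    refine ⟨b, ?_⟩
    rw [Submonoid.smul_def, Submonoid.smul_def, ← algebraMap_smul A (b : B) x₁, ← algebraMap_smul A (b : B) x₂, hbc,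
      mul_smul, mul_smul]
    exact congrArg (c • ·) ha

/-- Flatness at the only prime over a prime of a ring over which one is finite. -/
theorem flatAt_iff_of_unique {R B A M : Type u} [CommRing R] [CommRing B] [CommRing A] [Algebra R B] [Algebra R A]
    [Algebra B A] [IsScalarTower R B A] [Algebra.IsIntegral B A] [AddCommGroup M] [Module A M] [Module B M]
    [Module R M] [IsScalarTower B A M] [IsScalarTower R A M] [IsScalarTower R B M] (qA : Ideal A) [qA.IsPrime]
    (qB : Ideal B) [qB.IsPrime] [qA.LiesOver qB] (huniq : ∀ (Q : Ideal A) [Q.IsPrime], Q.LiesOver qB → Q = qA) :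
    FlatCA.FlatAt R qA M ↔ FlatCA.FlatAt R qB M := by
  haveI := isLocalizedModule_of_unique (M := M) qA qB huniq
  haveI : IsScalarTower R B (LocalizedModule qA.primeCompl M) := IsScalarTower.of_algebraMap_smul fun x y => by
    rw [← algebraMap_smul A (algebraMap R B x) y, ← IsScalarTower.algebraMap_apply, algebraMap_smul]
  let e := (IsLocalizedModule.iso qB.primeCompl
    ((LocalizedModule.mkLinearMap qA.primeCompl M).restrictScalars B)).restrictScalars R
  refine ⟨fun h => ?_, fun h => ?_⟩
  · haveI : Module.Flat R (LocalizedModule qA.primeCompl M) := h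
    exact Module.Flat.of_linearEquiv (M := LocalizedModule qA.primeCompl M) e
  · haveI : Module.Flat R (LocalizedModule qB.primeCompl M) := h
    exact Module.Flat.of_linearEquiv (M := LocalizedModule qB.primeCompl M) e.symm

/-- Flatness at a prime only depends on the module up to isomorphism. -/
theorem flatAt_congr {R S M M' : Type u} [CommRing R] [CommRing S] [Algebra R S] [AddCommGroup M] [Module S M]
    [Module R M] [IsScalarTower R S M] [AddCommGroup M'] [Module S M'] [Module R M'] [IsScalarTower R S M']
    (q : Ideal S) [q.IsPrime] (e : M ≃ₗ[S] M') (h : FlatCA.FlatAt R q M) : FlatCA.FlatAt R q M' := by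
  haveI : Module.Flat R (LocalizedModule q.primeCompl M) := h
  let e' : LocalizedModule q.primeCompl M ≃ₗ[S] LocalizedModule q.primeCompl M' :=
    IsLocalizedModule.iso q.primeCompl (LocalizedModule.mkLinearMap q.primeCompl M' ∘ₗ e.toLinearMap)
  exact Module.Flat.of_linearEquiv (M := LocalizedModule q.primeCompl M) (e'.symm.restrictScalars R)

/-- Finite presentation passes to a finite algebra. -/
theorem finitePresentation_of_finite {B A M : Type u} [CommRing B] [CommRing A] [Algebra B A] [Module.Finite B A]
    [AddCommGroup M] [Module A M] [Module B M] [IsScalarTower B A M] [Module.FinitePresentation B M] :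
    Module.FinitePresentation A M := by
  haveI : Module.Finite A M := Module.Finite.of_restrictScalars_finite B A M
  obtain ⟨n, f, hf⟩ := Module.Finite.exists_fin' A M
  refine Module.finitePresentation_of_surjective f hf ?_
  obtain ⟨s, hs⟩ := Module.FinitePresentation.fg_ker (f.restrictScalars B) hf
  refine ⟨s, le_antisymm (Submodule.span_le.2 fun x hx => ?_) fun x hx => ?_⟩
  · exact (hs.le (Submodule.subset_span hx) :)
  · exact Submodule.span_le_restrictScalars B A _ (hs.ge hx)

end Groth.Agent.RG4
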