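import Groth.Agent.Lib.RG4.MLNoeth
import Groth.Agent.Lib.Stein6.Approx
import Groth.Agent.S0582
import Groth.Agent.S0584

/-!
# Smooth algebras with geometrically irreducible fibres over local rings are free
-/

set_option autoImplicit false

universe u

open TensorProduct IsLocalRing AlgebraicGeometry CategoryTheory Topology

set_option backward.isDefEq.respectTransparency.types false

namespace Groth.Agent.RG4

/-- Noetherian local approximation keeping geometrically irreducible fibres. -/
theorem exists_noetherian_model {R S : Type u} [CommRing R] [IsLocalRing R] [CommRing S] [Algebra R S]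
    [Algebra.Smooth R S] (hS : FlatCA.GeomIrredFibres R S) :
    ∃ (R₁ S₁ : Type u) (_ : CommRing R₁) (_ : CommRing S₁) (_ : Algebra R₁ S₁) (_ : IsLocalRing R₁) (_ : Algebra R₁ R),
      IsNoetherianRing R₁ ∧ Algebra.Smooth R₁ S₁ ∧ FlatCA.GeomIrredFibres R₁ S₁ ∧
      Nonempty (R ⊗[R₁] S₁ ≃ₗ[R] S) := by
  obtain ⟨A₀, B₀, _, _, hA₀, hB₀, ⟨e⟩⟩ := Algebra.Smooth.exists_subalgebra_fg ℤ R S
  let f₁ := Spec.map (CommRingCat.ofHom (algebraMap A₀ B₀))
  haveI : LocallyOfFinitePresentation f₁ :=
    (HasRingHomProperty.Spec_iff (P := @LocallyOfFinitePresentation)).mpr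
      (RingHom.finitePresentation_algebraMap.mpr inferInstance)
  haveI hS' : GeometricallyIrreducible (Spec.map (CommRingCat.ofHom (algebraMap R (R ⊗[A₀] B₀)))) := by
    rw [show algebraMap R (R ⊗[A₀] B₀) = e.toRingEquiv.toRingHom.comp (algebraMap R S) from
      RingHom.ext fun x => (e.commutes x).symm, CommRingCat.ofHom_comp, Spec.map_comp]
    haveI : IsIso (CommRingCat.ofHom e.toRingEquiv.toRingHom) :=
      inferInstanceAs (IsIso e.toRingEquiv.toCommRingCatIso.hom)
    exact (MorphismProperty.cancel_left_of_respectsIso @GeometricallyIrreducible _ _).2 hS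
  have hpb := isPullback_SpecMap_of_isPushout _ _ _ _ (CommRingCat.isPushout_tensorProduct A₀ R B₀).flip
  have hA₀' : Algebra.FiniteType ℤ A₀ := (Subalgebra.fg_iff_finiteType _).1 hA₀
  let E : Set (Spec (CommRingCat.of A₀)) := {p | MoreMor.nGeomIrredComp f₁ p = 1}
  have hE : IsConstructible E :=
    (GeomSpread4.isLocallyConstructible_count (fun {X Y} f y => MoreMor.nGeomIrredComp f y)
      (fun h y' => (GeomSpread4.count_baseChange h y').1)
      (fun f _ _ y => (GeomSpread4.exists_count_const f y).imp fun U h => ⟨h.1, fun y' hy' => (h.2 y' hy').1⟩) f₁ 1).isConstructible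
  obtain ⟨R', ψ, hR', hψ, hq⟩ := Stein6.exists_stage_avoid (algebraMap A₀ R) hA₀' (E := E) hE (fun p => by
    show MoreMor.nGeomIrredComp f₁ (Spec.map (CommRingCat.ofHom (algebraMap A₀ R)) p) = 1
    rw [← (GeomSpread4.count_baseChange hpb p).1]
    exact (Stein6.geometricallyIrreducible_fibre_iff_count _ _).1 (MorphismProperty.pullback_snd _ _ hS'))
  haveI : Algebra.FiniteType ℤ R' := (Subalgebra.fg_iff_finiteType _).1 hR'
  haveI : IsNoetherianRing R' := Algebra.FiniteType.isNoetherianRing ℤ R'
  let m₁ : Ideal R' := (maximalIdeal R).comap R'.val.toRingHom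
  haveI : m₁.IsPrime := Ideal.comap_isPrime _ _
  let R₁ := Localization.AtPrime m₁
  have hu : ∀ y : m₁.primeCompl, IsUnit (R'.val.toRingHom y) := fun y =>
    by_contra fun h => y.2 ((mem_maximalIdeal _).2 h)
  letI iR : Algebra R₁ R := (IsLocalization.lift (M := m₁.primeCompl) (S := R₁) hu).toAlgebra
  letI iA : Algebra A₀ R₁ := ((algebraMap R' R₁).comp ψ).toAlgebra
  haveI : IsScalarTower A₀ R₁ R := IsScalarTower.of_algebraMap_eq fun x => by
    show _ = IsLocalization.lift hu (algebraMap R' R₁ (ψ x))
    rw [IsLocalization.lift_eq]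
    exact (RingHom.congr_fun hψ x).symm
  let S₁ := R₁ ⊗[A₀] B₀
  haveI : IsNoetherianRing R₁ := IsLocalization.isNoetherianRing m₁.primeCompl R₁ inferInstance
  refine ⟨R₁, S₁, inferInstance, inferInstance, inferInstance, inferInstance, iR, inferInstance,
    inferInstanceAs (Algebra.Smooth R₁ (R₁ ⊗[A₀] B₀)), ?_, ?_⟩
  · have hpb₁ := isPullback_SpecMap_of_isPushout _ _ _ _ (CommRingCat.isPushout_tensorProduct A₀ R₁ B₀).flip
    refine Stein6.geometricallyIrreducible_of_fibres _ fun q => (Stein6.geometricallyIrreducible_fibre_iff_count _ q).2 ?_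
    rw [(GeomSpread4.count_baseChange hpb₁ q).1]
    exact hq (PrimeSpectrum.comap (algebraMap R' R₁) q)
  · exact ⟨(AlgebraTensorModule.cancelBaseChange A₀ R₁ R R B₀).trans e.symm.toLinearEquiv⟩

/-- Smooth algebras with geometrically irreducible fibres over local rings are free modules. -/
theorem free_of_smooth {R S : Type u} [CommRing R] [IsLocalRing R] [CommRing S] [Algebra R S]
    [Algebra.Smooth R S] (hS : FlatCA.GeomIrredFibres R S) : Module.Free R S := by
  obtain ⟨R₁, S₁, _, _, _, _, _, _, _, hS₁, ⟨e⟩⟩ := exists_noetherian_model hS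
  have hML : CAlg.IsMittagLeffler R S :=
    CAlgLow.isMittagLeffler_congr e.symm (CAlgLow.isMittagLeffler_baseChange (isMittagLeffler_of_noetherian hS₁))
  have hcg : CAlg.IsCountablyGenerated R S := by
    obtain ⟨n, f, hf⟩ := Algebra.FiniteType.iff_quotient_mvPolynomial''.1 (inferInstance : Algebra.FiniteType R S)
    refine ⟨f '' Set.range (MvPolynomial.basisMonomials (Fin n) R), (Set.countable_range _).image _, ?_⟩
    change Submodule.span R (f.toLinearMap '' _) = ⊤
    rw [Submodule.span_image, (MvPolynomial.basisMonomials (Fin n) R).span_eq, Submodule.map_top]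
    exact LinearMap.range_eq_top.2 hf
  haveI : Module.Projective R S := (S0584.result R S).2 ⟨inferInstance, hML, PUnit, fun _ => ⊤,
    (by convert! DirectSum.isInternal_submodule_of_iSupIndep_of_iSup_eq_top (iSupIndep_subsingleton (fun _ : PUnit => (⊤ : Submodule R S))) (by simp)),
    fun _ => by
      obtain ⟨s, hs, hspan⟩ := hcg
      refine ⟨Subtype.val ⁻¹' s, hs.preimage Subtype.val_injective, ?_⟩
      apply Submodule.map_injective_of_injective (f := (⊤ : Submodule R S).subtype) Subtype.val_injective
      rw [Submodule.map_span, Submodule.map_subtype_top]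
      refine (congrArg (Submodule.span R) ?_).trans hspan
      ext x; simp⟩
  exact S0582.result R S

end Groth.Agent.RG4
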