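import Groth.Prelude.Def_FlatCA
import Groth.Agent.Lib.EtaEtale.Dim
import Groth.Agent.Lib.VarDim.Alg
import Mathlib

/-!
# Dimension of the support of fibre modules

The fibre module of a module over a tower of algebras does not depend on the ring in the middle; the
dimension of its support is unchanged along finite maps.
-/

set_option autoImplicit false

universe u

open TensorProduct AlgebraicGeometry CategoryTheory

set_option backward.isDefEq.respectTransparency.types false

attribute [local instance] Algebra.TensorProduct.rightAlgebra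

namespace Groth.Agent.RG4

section Equiv

variable {R A B : Type u} [CommRing R] [CommRing A] [CommRing B] [Algebra R A] [Algebra R B] [Algebra A B]
  [IsScalarTower R A B] (G : Type u) [AddCommGroup G] [Module A G] [Module B G] [Module R G]
  [IsScalarTower A B G] [IsScalarTower R A G] [IsScalarTower R B G] (p : Ideal R) [p.IsPrime]

/-- The map of fibre rings. -/
noncomputable abbrev fibMap : p.Fiber A →ₐ[p.ResidueField] p.Fiber B :=
  Algebra.TensorProduct.map (AlgHom.id p.ResidueField p.ResidueField) (IsScalarTower.toAlgHom R A B)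

/-- The fibre module of a module over a tower of algebras is independent of the middle algebra. -/
theorem exists_fiberMod_equiv :
    ∃ e : FlatCA.fiberMod p A G ≃+ FlatCA.fiberMod p B G,
      ∀ (f : p.Fiber A) (m : FlatCA.fiberMod p A G), e (f • m) = fibMap (B := B) p f • e m := by
  let φ := fibMap (A := A) (B := B) p
  have hφ : ∀ (k : p.ResidueField) (a : A), φ (k ⊗ₜ a) = k ⊗ₜ algebraMap A B a := fun k a =>
    Algebra.TensorProduct.map_tmul _ _ _ _
  -- forward
  let f₁ : p.Fiber A →+ G →+ (p.Fiber B) ⊗[B] G :=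
    AddMonoidHom.mk' (fun f => (TensorProduct.mk B (p.Fiber B) G (φ f)).toAddMonoidHom)
      (fun f f' => AddMonoidHom.ext fun m => by simp [map_add, TensorProduct.add_tmul])
  let fwd : (p.Fiber A) ⊗[A] G →+ (p.Fiber B) ⊗[B] G :=
    TensorProduct.liftAddHom f₁ fun a f m => by
      show φ (a • f) ⊗ₜ[B] m = φ f ⊗ₜ[B] (a • m)
      rw [Algebra.smul_def, map_mul, ← algebraMap_smul B a m, ← TensorProduct.smul_tmul, Algebra.smul_def]
      congr 2
  have fwd_tmul : ∀ f m, fwd (f ⊗ₜ[A] m) = φ f ⊗ₜ[B] m := fun f m => rfl
  -- backward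
  let g₀ : p.ResidueField →+ B →+ G →+ (p.Fiber A) ⊗[A] G :=
    AddMonoidHom.mk' (fun k => AddMonoidHom.mk' (fun b => AddMonoidHom.mk'
        (fun m => (k ⊗ₜ[R] (1 : A) : p.Fiber A) ⊗ₜ[A] (b • m))
        (fun m m' => by simp [smul_add, TensorProduct.tmul_add]))
      (fun b b' => AddMonoidHom.ext fun m => by simp [add_smul, TensorProduct.tmul_add]))
      (fun k k' => AddMonoidHom.ext fun b => AddMonoidHom.ext fun m => by simp [TensorProduct.add_tmul])
  let g₁ : p.Fiber B →+ G →+ (p.Fiber A) ⊗[A] G :=
    TensorProduct.liftAddHom g₀ fun r k b => AddMonoidHom.ext fun m => by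
      show ((r • k) ⊗ₜ[R] (1 : A) : p.Fiber A) ⊗ₜ[A] (b • m) = (k ⊗ₜ[R] (1 : A) : p.Fiber A) ⊗ₜ[A] ((r • b) • m)
      rw [smul_assoc, ← algebraMap_smul A r (b • m), ← TensorProduct.smul_tmul (algebraMap R A r), Algebra.smul_def]
      congr 1
      show _ = ((1 : p.ResidueField) ⊗ₜ[R] algebraMap R A r) * (k ⊗ₜ[R] (1 : A))
      rw [Algebra.TensorProduct.tmul_mul_tmul, one_mul, mul_one, ← Algebra.smul_def,
        TensorProduct.smul_tmul, Algebra.smul_def, mul_one]
  have g₁_tmul : ∀ k b m, g₁ (k ⊗ₜ[R] b) m = (k ⊗ₜ[R] (1 : A) : p.Fiber A) ⊗ₜ[A] (b • m) := fun k b m => rfl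
  let bwd : (p.Fiber B) ⊗[B] G →+ (p.Fiber A) ⊗[A] G :=
    TensorProduct.liftAddHom g₁ fun b' f m => by
      induction f using TensorProduct.induction_on with
      | zero => simp
      | add x y hx hy => rw [smul_add, map_add, AddMonoidHom.add_apply, hx, hy, map_add, AddMonoidHom.add_apply]
      | tmul k b =>
        rw [Algebra.smul_def]
        show g₁ (((1 : p.ResidueField) ⊗ₜ[R] b') * (k ⊗ₜ[R] b)) m = _
        rw [Algebra.TensorProduct.tmul_mul_tmul, one_mul, g₁_tmul, g₁_tmul, mul_comm, mul_smul]
  have bwd_tmul : ∀ f m, bwd (f ⊗ₜ[B] m) = g₁ f m := fun f m => rfl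
  have h1 : ∀ w, bwd (fwd w) = w := by
    intro w
    induction w using TensorProduct.induction_on with
    | zero => simp
    | add x y hx hy => rw [map_add, map_add, hx, hy]
    | tmul f m =>
      rw [fwd_tmul, bwd_tmul]
      induction f using TensorProduct.induction_on with
      | zero => simp [TensorProduct.zero_tmul]
      | add x y hx hy => rw [map_add, map_add, AddMonoidHom.add_apply, hx, hy, TensorProduct.add_tmul]
      | tmul k a =>
        rw [hφ, g₁_tmul, algebraMap_smul, ← TensorProduct.smul_tmul, Algebra.smul_def]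
        congr 1
        show ((1 : p.ResidueField) ⊗ₜ[R] a) * (k ⊗ₜ[R] (1 : A)) = _
        rw [Algebra.TensorProduct.tmul_mul_tmul, one_mul, mul_one]
  have h2 : ∀ w, fwd (bwd w) = w := by
    intro w
    induction w using TensorProduct.induction_on with
    | zero => simp
    | add x y hx hy => rw [map_add, map_add, hx, hy]
    | tmul f m =>
      rw [bwd_tmul]
      induction f using TensorProduct.induction_on with
      | zero => simp [TensorProduct.zero_tmul]
      | add x y hx hy => rw [map_add, AddMonoidHom.add_apply, map_add, hx, hy, TensorProduct.add_tmul]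
      | tmul k b =>
        rw [g₁_tmul, fwd_tmul, hφ, map_one, ← TensorProduct.smul_tmul, Algebra.smul_def]
        congr 1
        show ((1 : p.ResidueField) ⊗ₜ[R] b) * (k ⊗ₜ[R] (1 : B)) = _
        rw [Algebra.TensorProduct.tmul_mul_tmul, one_mul, mul_one]
  have h3 : ∀ (f : p.Fiber A) (w : (p.Fiber A) ⊗[A] G), fwd (f • w) = φ f • fwd w := by
    intro f w
    induction w using TensorProduct.induction_on with
    | zero => rw [smul_zero, map_zero, smul_zero]
    | add x y hx hy => rw [smul_add, map_add, map_add, hx, hy, smul_add]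
    | tmul f' n =>
      rw [TensorProduct.smul_tmul', fwd_tmul, fwd_tmul, smul_eq_mul, map_mul, TensorProduct.smul_tmul',
        smul_eq_mul]
  exact ⟨{ fwd with invFun := bwd, left_inv := h1, right_inv := h2 }, h3⟩

/-- Finite maps do not change the dimension of the support of fibre modules. -/
theorem supportDim_fiberMod_eq [Module.Finite A B] [Module.Finite A G] :
    Module.supportDim (p.Fiber A) (FlatCA.fiberMod p A G) =
      Module.supportDim (p.Fiber B) (FlatCA.fiberMod p B G) := by
  haveI : Module.Finite B G := Module.Finite.of_restrictScalars_finite A B G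
  haveI : Module.Finite (p.Fiber A) (FlatCA.fiberMod p A G) := Module.Finite.base_change A (p.Fiber A) G
  haveI : Module.Finite (p.Fiber B) (FlatCA.fiberMod p B G) := Module.Finite.base_change B (p.Fiber B) G
  obtain ⟨e, he⟩ := exists_fiberMod_equiv (A := A) (B := B) G p
  rw [Module.supportDim_eq_ringKrullDim_quotient_annihilator,
    Module.supportDim_eq_ringKrullDim_quotient_annihilator]
  let φ := (fibMap (A := A) (B := B) p).toRingHom
  have hfin : φ.Finite := by
    letI : Algebra (p.Fiber A) (p.Fiber B) := φ.toAlgebra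
    rw [RingHom.Finite]
    obtain ⟨s, hs⟩ := (inferInstance : Module.Finite A B).fg_top
    classical
    refine ⟨⟨s.image fun b => (1 : p.ResidueField) ⊗ₜ[R] b, eq_top_iff.2 fun w hw => ?_⟩⟩
    clear hw
    induction w using TensorProduct.induction_on with
    | zero => exact zero_mem _
    | add x y hx hy => exact add_mem hx hy
    | tmul k b =>
      have hb : b ∈ Submodule.span A (s : Set B) := hs ▸ trivial
      induction hb using Submodule.span_induction with
      | mem x hx =>
        rw [show (k ⊗ₜ[R] x : p.Fiber B) = (k ⊗ₜ[R] (1 : A) : p.Fiber A) • ((1 : p.ResidueField) ⊗ₜ[R] x) by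
          rw [Algebra.smul_def]
          show _ = fibMap (B := B) p (k ⊗ₜ 1) * _
          rw [Algebra.TensorProduct.map_tmul, Algebra.TensorProduct.tmul_mul_tmul]
          simp]
        exact Submodule.smul_mem _ _ (Submodule.subset_span (Finset.mem_coe.2 (Finset.mem_image_of_mem _ hx)))
      | zero => rw [TensorProduct.tmul_zero]; exact zero_mem _
      | add x y _ _ hx hy => rw [TensorProduct.tmul_add]; exact add_mem hx hy
      | smul a x _ hx =>
        rw [show (k ⊗ₜ[R] (a • x) : p.Fiber B) = ((1 : p.ResidueField) ⊗ₜ[R] a : p.Fiber A) • (k ⊗ₜ[R] x) by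
          rw [Algebra.smul_def a x]
          conv_rhs => rw [Algebra.smul_def]
          show _ = fibMap (B := B) p (1 ⊗ₜ a) * _
          rw [Algebra.TensorProduct.map_tmul, Algebra.TensorProduct.tmul_mul_tmul]
          simp]
        exact Submodule.smul_mem _ _ hx
  let I := Module.annihilator (p.Fiber B) (FlatCA.fiberMod p B G)
  have hI : Module.annihilator (p.Fiber A) (FlatCA.fiberMod p A G) = I.comap φ := by
    ext f
    rw [Ideal.mem_comap, Module.mem_annihilator, Module.mem_annihilator]
    refine ⟨fun h m => ?_, fun h m => e.injective ?_⟩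
    · rw [← e.apply_symm_apply m]
      exact (he f _).symm.trans ((congrArg e (h _)).trans (map_zero e))
    · rw [he, map_zero]; exact h _
  rw [hI]
  let ψ : p.Fiber A ⧸ I.comap φ →+* p.Fiber B ⧸ I := Ideal.quotientMap I φ (le_refl (I.comap φ))
  letI : Algebra (p.Fiber A ⧸ I.comap φ) (p.Fiber B ⧸ I) := @RingHom.toAlgebra _ _ (Ideal.Quotient.commSemiring (I.comap φ)) (Ideal.Quotient.commSemiring I) ψ
  have hq := RingHom.IsIntegral.quotient φ (hfin.to_isIntegral) (I := I)
  haveI : Algebra.IsIntegral (p.Fiber A ⧸ I.comap φ) (p.Fiber B ⧸ I) := ⟨hq⟩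
  exact (VarDim.ringKrullDim_eq_of_isIntegral (R := p.Fiber A ⧸ I.comap φ) (S := p.Fiber B ⧸ I)
    Ideal.quotientMap_injective).symm

end Equiv

/-- The fibre of a smooth algebra of relative dimension `n` has dimension at most `n`. -/
theorem ringKrullDim_fiber_le {R D : Type u} [CommRing R] [CommRing D] [Algebra R D] (n : ℕ)
    (h : FlatCA.SmoothRelDim n R D) (p : Ideal R) [p.IsPrime] : ringKrullDim (p.Fiber D) ≤ n := by
  refine EtaEtale.ringKrullDim_le_of_smooth (K := p.ResidueField) (A := p.Fiber D) n ?_
  haveI := smoothOfRelativeDimension_isStableUnderBaseChange n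
  have h1 := isPullback_SpecMap_of_isPushout _ _ _ _
    (CommRingCat.isPushout_tensorProduct R p.ResidueField D).flip
  exact MorphismProperty.of_isPullback (P := @SmoothOfRelativeDimension n) h1 h

/-- A finite module over a finite dimensional domain whose support has full dimension has trivial
annihilator. -/
theorem annihilator_eq_bot {A M : Type u} [CommRing A] [IsDomain A] [AddCommGroup M] [Module A M] [Module.Finite A M]
    (n : ℕ) (hA : ringKrullDim A ≤ n) (hM : (n : WithBot ℕ∞) ≤ Module.supportDim A M) :
    Module.annihilator A M = ⊥ := by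
  by_contra hne
  obtain ⟨a, ha, ha0⟩ := Submodule.exists_mem_ne_zero_of_ne_bot hne
  rw [Module.supportDim_eq_ringKrullDim_quotient_annihilator] at hM
  have h1 := ringKrullDim_quotient_succ_le_of_nonZeroDivisor (mem_nonZeroDivisors_of_ne_zero ha0)
  have h2 : ringKrullDim (A ⧸ Module.annihilator A M) ≤ ringKrullDim (A ⧸ Ideal.span {a}) :=
    ringKrullDim_le_of_surjective (Ideal.Quotient.factor ((Ideal.span_singleton_le_iff_mem _).2 ha))
      (Ideal.Quotient.factor_surjective _)
  have h3 : (n : WithBot ℕ∞) + 1 ≤ n := ((add_le_add_left (hM.trans h2) 1).trans h1).trans hA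
  exact absurd (show ((n : ℕ∞) + 1) ≤ (n : ℕ∞) by exact_mod_cast h3) (by
    rw [not_le]; exact_mod_cast Nat.lt_succ_self n)

/-- Conversely a nonzero annihilator makes the dimension drop. -/
theorem supportDim_lt {A M : Type u} [CommRing A] [IsDomain A] [AddCommGroup M] [Module A M] [Module.Finite A M]
    (n : ℕ) (hA : ringKrullDim A ≤ n) (hM : Module.annihilator A M ≠ ⊥) :
    Module.supportDim A M < n := by
  by_contra hlt
  exact hM (annihilator_eq_bot n hA (not_lt.1 hlt))

end Groth.Agent.RG4
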