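import Mathlib

/-!
# Lifting a basis of a base change to a field; cokernels
-/

set_option autoImplicit false

universe u

open TensorProduct

namespace Groth.Agent.RG4

/-- A basis of the base change to a field can be chosen among elements of the module. -/
theorem exists_bijective_baseChange {D : Type u} [CommRing D] (K : Type u) [Field K] [Algebra D K]
    (M : Type u) [AddCommGroup M] [Module D M] [Module.Finite D M] :
    ∃ (r : ℕ) (α : (Fin r → D) →ₗ[D] M), r = Module.finrank K (K ⊗[D] M) ∧
      Function.Bijective (α.baseChange K) := by
  classical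
  obtain ⟨s, hs, hspan, hli⟩ := exists_linearIndependent K (Set.range fun m : M => (1 : K) ⊗ₜ[D] m)
  have htop : Submodule.span K s = ⊤ := by
    rw [hspan, eq_top_iff]
    intro z hz
    clear hz
    induction z using TensorProduct.induction_on with
    | zero => exact zero_mem _
    | add x y hx hy => exact add_mem hx hy
    | tmul k m =>
      rw [show k ⊗ₜ[D] m = k • ((1 : K) ⊗ₜ[D] m) by rw [TensorProduct.smul_tmul', smul_eq_mul, mul_one]]
      exact Submodule.smul_mem _ _ (Submodule.subset_span ⟨m, rfl⟩)
  let b : Module.Basis s K (K ⊗[D] M) := Module.Basis.mk hli (by rw [Subtype.range_coe]; exact htop.ge)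
  haveI : Fintype s := FiniteDimensional.fintypeBasisIndex b
  let b' := b.reindex (Fintype.equivFin s)
  have hm : ∀ i, ∃ m : M, (1 : K) ⊗ₜ[D] m = b' i := by
    intro i
    rw [Module.Basis.reindex_apply, Module.Basis.mk_apply]
    exact hs ((Fintype.equivFin s).symm i).2
  choose m hm using hm
  refine ⟨Fintype.card s, Fintype.linearCombination D m, ?_, ?_⟩
  · rw [Module.finrank_eq_card_basis b', Fintype.card_fin]
  · let c := Algebra.TensorProduct.basis K (Pi.basisFun D (Fin (Fintype.card s)))
    have h : (Fintype.linearCombination D m).baseChange K = (c.equiv b' (Equiv.refl _)).toLinearMap := by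
      refine c.ext fun i => ?_
      show _ = c.equiv b' (Equiv.refl _) (c i)
      rw [Module.Basis.equiv_apply, Algebra.TensorProduct.basis_apply, LinearMap.baseChange_tmul,
        Pi.basisFun_apply, Fintype.linearCombination_apply_single, one_smul]
      exact hm i
    rw [h]
    exact (c.equiv b' (Equiv.refl _)).bijective

/-- The cokernel vanishes after a base change which makes the map surjective. -/
theorem subsingleton_baseChange_coker {D : Type u} [CommRing D] (K : Type u) [CommRing K] [Algebra D K]
    {F M : Type u} [AddCommGroup F] [Module D F] [AddCommGroup M] [Module D M] (α : F →ₗ[D] M)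
    (h : Function.Surjective (α.baseChange K)) : Subsingleton (K ⊗[D] (M ⧸ LinearMap.range α)) := by
  refine subsingleton_of_forall_eq 0 fun z => ?_
  obtain ⟨w, rfl⟩ := LinearMap.lTensor_surjective K (Submodule.mkQ_surjective (LinearMap.range α)) z
  obtain ⟨v, rfl⟩ := h w
  rw [← LinearMap.baseChange_eq_ltensor (A := K), ← LinearMap.comp_apply, ← LinearMap.baseChange_comp,
    show (LinearMap.range α).mkQ.comp α = 0 from LinearMap.ext fun x =>
      (Submodule.Quotient.mk_eq_zero _).2 ⟨x, rfl⟩]
  simp

end Groth.Agent.RG4
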