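import Groth.Agent.Lib.RG4.GenericIso
import Groth.Agent.Lib.RG4.LocFlat
import Groth.Agent.S1198
import Groth.Agent.S0586
import Groth.Agent.Lib.Compl.Noetherian

/-!
# Smooth algebras with geometrically irreducible fibres over noetherian local rings are Mittag-Leffler
-/

set_option autoImplicit false

universe u

open TensorProduct IsLocalRing

set_option backward.isDefEq.respectTransparency.types false

namespace Groth.Agent.RG4

theorem universallyInjective_of_univInj {R M N : Type u} [CommRing R] [AddCommGroup M] [Module R M] [AddCommGroup N]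
    [Module R N] {f : M →ₗ[R] N} (h : FlatCA.UnivInj R f) : CAlgX.UniversallyInjective R f := by
  intro Q _ _ x y hxy
  apply (TensorProduct.comm R M Q).injective
  refine h Q ?_
  have key : ∀ w, f.lTensor Q (TensorProduct.comm R M Q w) = TensorProduct.comm R N Q (f.rTensor Q w) := fun w => by
    induction w using TensorProduct.induction_on with
    | zero => simp
    | add a b ha hb => simp only [map_add, ha, hb]
    | tmul a q => rfl
  rw [key, key, hxy]

/-- The localisation at the generic point of the closed fibre is universally injective. -/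
theorem univInj_toLocalization {R S : Type u} [CommRing R] [IsLocalRing R] [CommRing S] [Algebra R S] [Algebra.Smooth R S]
    (hS : FlatCA.GeomIrredFibres R S) [((maximalIdeal R).map (algebraMap R S)).IsPrime] :
    FlatCA.UnivInj R ((Algebra.linearMap S (Localization.AtPrime ((maximalIdeal R).map (algebraMap R S)))).restrictScalars R) := by
  set ξ := (maximalIdeal R).map (algebraMap R S)
  let e₁ : (Fin 1 → S) ≃ₗ[S] S := LinearEquiv.funUnique (Fin 1) S S
  have hα : Function.Bijective (e₁.toLinearMap.baseChange ξ.ResidueField) :=
    (e₁.baseChange S ξ.ResidueField (Fin 1 → S) S).bijective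
  haveI : Module.Flat R (LocalizedModule ξ.primeCompl S) :=
    flat_of_isLocalizedModule ξ.primeCompl (LocalizedModule.mkLinearMap ξ.primeCompl S)
  have h := univInj_localized (α := e₁.toLinearMap) hS
    (inferInstanceAs (Module.Flat R (LocalizedModule ξ.primeCompl S))) hα
  let eL := IsLocalizedModule.iso ξ.primeCompl (Algebra.linearMap S (Localization.AtPrime ξ))
  have heq : (Algebra.linearMap S (Localization.AtPrime ξ)).restrictScalars R =
      (eL.restrictScalars R).toLinearMap ∘ₗ
        ((LocalizedModule.mkLinearMap ξ.primeCompl S ∘ₗ e₁.toLinearMap).restrictScalars R) ∘ₗ (e₁.symm.restrictScalars R).toLinearMap := by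
    refine LinearMap.ext fun x => ?_
    show _ = eL (LocalizedModule.mkLinearMap ξ.primeCompl S (e₁ (e₁.symm x)))
    rw [LinearEquiv.apply_symm_apply]
    exact (IsLocalizedModule.iso_mk_one ξ.primeCompl (Algebra.linearMap S (Localization.AtPrime ξ)) x).symm
  intro Q _ _
  rw [heq, LinearMap.lTensor_comp, LinearMap.lTensor_comp]
  exact ((eL.restrictScalars R).lTensor Q).injective.comp ((h Q).comp ((e₁.symm.restrictScalars R).lTensor Q).injective)

/-- A flat algebra which is a noetherian local ring embeds universally injectively in its completion. -/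
theorem univInj_completion {R T : Type u} [CommRing R] [IsLocalRing R] [IsNoetherianRing R] [CommRing T] [IsLocalRing T]
    [IsNoetherianRing T] [Algebra R T] [IsLocalHom (algebraMap R T)]
    [Module.Flat R (AdicCompletion (maximalIdeal R) T)] :
    FlatCA.UnivInj R (AdicCompletion.of (maximalIdeal R) T) := by
  set m := maximalIdeal R
  let c := AdicCompletion.of m T
  have hmT : m.map (algebraMap R T) ≠ ⊤ :=
    ne_top_of_le_ne_top (maximalIdeal.isMaximal T).ne_top (Ideal.map_le_iff_le_comap.2 fun a ha =>
      (mem_maximalIdeal _).2 fun hu => (mem_maximalIdeal _).1 ha (hu.of_map (algebraMap R T)))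
  have hfin : ∀ (Q : Type u) [AddCommGroup Q] [Module R Q] [Module.Finite R Q], Function.Injective (c.rTensor Q) := by
    intro Q _ _ _
    rw [injective_iff_map_eq_zero]
    intro x hx
    have hk : ∀ n, x ∈ (m.map (algebraMap R T)) ^ n • (⊤ : Submodule T (T ⊗[R] Q)) := by
      intro n
      have h1 : (Submodule.mkQ (m ^ n • ⊤ : Submodule R T)).rTensor Q x = 0 := by
        rw [show Submodule.mkQ (m ^ n • ⊤ : Submodule R T) = AdicCompletion.eval m T n ∘ₗ c from rfl,
          LinearMap.rTensor_comp, LinearMap.comp_apply, hx, map_zero]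
      obtain ⟨y, rfl⟩ := (rTensor_exact Q (LinearMap.exact_subtype_mkQ _) (Submodule.mkQ_surjective _) x).1 h1
      clear h1 hx
      induction y using TensorProduct.induction_on with
      | zero => simp
      | add a b ha hb => rw [map_add]; exact add_mem ha hb
      | tmul a q =>
        rw [LinearMap.rTensor_tmul, Submodule.subtype_apply,
          show (a : T) ⊗ₜ[R] q = (a : T) • ((1 : T) ⊗ₜ[R] q) by rw [TensorProduct.smul_tmul', smul_eq_mul, mul_one]]
        refine Submodule.smul_mem_smul ?_ Submodule.mem_top
        rw [← Ideal.map_pow]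
        exact (Ideal.smul_top_eq_map (S := T) (m ^ n)).le a.2
    have hbot := Ideal.iInf_pow_smul_eq_bot_of_isLocalRing (M := T ⊗[R] Q) (m.map (algebraMap R T)) hmT
    exact (Submodule.mem_bot T).1 (hbot ▸ Submodule.mem_iInf _ |>.2 hk)
  intro Q _ _
  rw [injective_iff_map_eq_zero]
  intro x hx
  obtain ⟨t, rfl⟩ := TensorProduct.exists_finset x
  let W : Submodule R Q := Submodule.span R ((fun i : Q × T => i.1) '' (t : Set (Q × T)))
  haveI : Module.Finite R W := Module.Finite.span_of_finite R (t.finite_toSet.image _)
  let y : W ⊗[R] T := ∑ i : {i // i ∈ t}, (⟨i.1.1, Submodule.subset_span ⟨i.1, i.2, rfl⟩⟩ : W) ⊗ₜ[R] i.1.2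
  have hy : W.subtype.rTensor T y = ∑ i ∈ t, i.1 ⊗ₜ[R] i.2 := by
    rw [map_sum, ← t.sum_attach, ← Finset.univ_eq_attach]
    exact Finset.sum_congr rfl fun i _ => rfl
  have hy0 : c.lTensor W y = 0 := by
    refine Module.Flat.rTensor_preserves_injective_linearMap (M := AdicCompletion m T) W.subtype W.injective_subtype ?_
    rw [map_zero, ← LinearMap.comp_apply, LinearMap.rTensor_comp_lTensor, ← LinearMap.lTensor_comp_rTensor,
      LinearMap.comp_apply, hy, hx]
  have key : ∀ w, c.rTensor W (TensorProduct.comm R W T w) = TensorProduct.comm R W (AdicCompletion m T) (c.lTensor W w) := fun w => by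
    induction w using TensorProduct.induction_on with
    | zero => simp
    | add a b ha hb => simp only [map_add, ha, hb]
    | tmul a q => rfl
  have : y = 0 := (TensorProduct.comm R W T).injective (hfin W (by rw [key, hy0]; simp))
  rw [← hy, this, map_zero]

/-- The complete case. -/
theorem isMittagLeffler_of_complete {R S : Type u} [CommRing R] [IsLocalRing R] [IsNoetherianRing R]
    [IsAdicComplete (maximalIdeal R) R] [CommRing S] [Algebra R S] [Algebra.Smooth R S]
    (hS : FlatCA.GeomIrredFibres R S) : CAlg.IsMittagLeffler R S := by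
  haveI := isPrime_map_maximalIdeal (isDomain_fiber_of_smooth hS (maximalIdeal R))
  set ξ := (maximalIdeal R).map (algebraMap R S)
  let T := Localization.AtPrime ξ
  haveI : IsNoetherianRing S := Algebra.FiniteType.isNoetherianRing R S
  haveI : IsNoetherianRing T := IsLocalization.isNoetherianRing ξ.primeCompl T inferInstance
  haveI : IsLocalHom (algebraMap R T) := by
    refine ((IsLocalRing.local_hom_TFAE (algebraMap R T)).out 0 2).2 ?_
    rw [IsScalarTower.algebraMap_eq R S T, ← Ideal.map_map, ← Localization.AtPrime.map_eq_maximalIdeal]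
  letI : Field (R ⧸ maximalIdeal R) := Ideal.Quotient.field _
  haveI : Module.Free (R ⧸ maximalIdeal R) (T ⧸ (maximalIdeal R • ⊤ : Submodule R T)) := Module.Free.of_divisionRing _ _
  obtain ⟨hF, hML⟩ := S1198.result R (maximalIdeal R) T
  haveI := hF
  exact CAlgLow.isMittagLeffler_of_ui (universallyInjective_of_univInj (univInj_toLocalization hS))
    (CAlgLow.isMittagLeffler_of_ui (universallyInjective_of_univInj univInj_completion) hML)

/-- Over a noetherian local ring. -/
theorem isMittagLeffler_of_noetherian {R S : Type u} [CommRing R] [IsLocalRing R] [IsNoetherianRing R]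
    [CommRing S] [Algebra R S] [Algebra.Smooth R S]
    (hS : FlatCA.GeomIrredFibres R S) : CAlg.IsMittagLeffler R S := by
  let Rh := AdicCompletion (maximalIdeal R) R
  haveI : IsNoetherianRing Rh := Compl.isNoetherianRing_adicCompletion _ (IsNoetherian.noetherian _)
  haveI : Module.FaithfullyFlat R Rh := Module.FaithfullyFlat.of_flat_of_isLocalHom
  have h : CAlg.IsMittagLeffler Rh (Rh ⊗[R] S) := isMittagLeffler_of_complete (geomIrredFibres_baseChange Rh hS)
  exact S0586.result R Rh S h

end Groth.Agent.RG4
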