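import Groth.Agent.Lib.RG4.ValInj
import Groth.Agent.Lib.RG4.Domain
import Groth.Agent.Lib.RG4.Basis
import Groth.Agent.Lib.FlatFibInj.Main

/-!
# A flat module near the generic point of the closed fibre

Over a local ring, for a smooth algebra with geometrically irreducible fibres, a map from a finite free
module to a module flat at the generic point `ξ` of the closed fibre, bijective over `κ(ξ)`, is
universally injective.
-/

set_option autoImplicit false

universe u

open TensorProduct IsLocalRing

set_option backward.isDefEq.respectTransparency.types false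

attribute [local instance] Algebra.TensorProduct.rightAlgebra

namespace Groth.Agent.RG4

theorem exists_smul_eq_rTensor {R V K X : Type u} [CommRing R] [CommRing V] [IsDomain V] [Field K] [Algebra R V] [Algebra V K]
    [IsFractionRing V K] [Algebra R K] [IsScalarTower R V K] [AddCommGroup X] [Module R X] (z : K ⊗[R] X) :
    ∃ (c : V) (z' : V ⊗[R] X), algebraMap V K c ≠ 0 ∧
      algebraMap V K c • z = (IsScalarTower.toAlgHom R V K).toLinearMap.rTensor X z' := by
  induction z using TensorProduct.induction_on with
  | zero => exact ⟨1, 0, by simp, by simp⟩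
  | tmul k x =>
    obtain ⟨a, c, hc, rfl⟩ := IsFractionRing.div_surjective (A := V) k
    have hc0 : algebraMap V K c ≠ 0 := fun h =>
      nonZeroDivisors.ne_zero hc (IsFractionRing.injective V K (h.trans (map_zero _).symm))
    refine ⟨c, a ⊗ₜ x, hc0, ?_⟩
    rw [TensorProduct.smul_tmul', smul_eq_mul, mul_div_cancel₀ _ hc0]
    rfl
  | add z w hz hw =>
    obtain ⟨c, z', hc, hz⟩ := hz
    obtain ⟨d, w', hd, hw⟩ := hw
    refine ⟨c * d, d • z' + c • w', by rw [map_mul]; exact mul_ne_zero hc hd, ?_⟩
    have hlin : ∀ (e : V) (y : V ⊗[R] X), (IsScalarTower.toAlgHom R V K).toLinearMap.rTensor X (e • y) =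
        algebraMap V K e • (IsScalarTower.toAlgHom R V K).toLinearMap.rTensor X y := fun e y => by
      induction y using TensorProduct.induction_on with
      | zero => simp
      | tmul v x => simp [TensorProduct.smul_tmul', Algebra.smul_def]
      | add a b ha hb => rw [smul_add, map_add, map_add, ha, hb, smul_add]
    rw [map_add, hlin, hlin, ← hz, ← hw, map_mul, smul_add, smul_smul, smul_smul, mul_comm (algebraMap V K d)]

variable {R S : Type u} [CommRing R] [IsLocalRing R] [CommRing S] [Algebra R S] [Algebra.Smooth R S]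
  [hξ : ((maximalIdeal R).map (algebraMap R S)).IsPrime]
  {N : Type u} [AddCommGroup N] [Module S N] [Module R N] [IsScalarTower R S N] [Module.Finite S N]
  {r : ℕ} {α : (Fin r → S) →ₗ[S] N}

/-- Near `ξ` every element is in the image. -/
theorem exists_smul_mem_range
    (hα : Function.Bijective (α.baseChange ((maximalIdeal R).map (algebraMap R S)).ResidueField)) (n : N) :
    ∃ s : S, s ∉ (maximalIdeal R).map (algebraMap R S) ∧ s • n ∈ LinearMap.range α := by
  set ξ := (maximalIdeal R).map (algebraMap R S)
  haveI : Subsingleton (ξ.ResidueField ⊗[S] (N ⧸ LinearMap.range α)) := subsingleton_baseChange_coker _ α hα.2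
  have h : (⟨ξ, hξ⟩ : PrimeSpectrum S) ∉ Module.support S (N ⧸ LinearMap.range α) := fun h => by
    rw [Module.mem_support_iff_nontrivial_residueField_tensorProduct] at h
    exact not_subsingleton _ ‹Subsingleton (ξ.ResidueField ⊗[S] (N ⧸ LinearMap.range α))›
  obtain ⟨s, hs, hsn⟩ := Module.notMem_support_iff'.1 h (Submodule.Quotient.mk n)
  exact ⟨s, hs, (Submodule.Quotient.mk_eq_zero _).1 (by rw [← hsn]; rfl)⟩

/-- Injectivity on every fibre of the composite with the localisation at `ξ`. -/
theorem injective_lTensor_residueField (hS : FlatCA.GeomIrredFibres R S)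
    (hflat : FlatCA.FlatAt R ((maximalIdeal R).map (algebraMap R S)) N)
    (hα : Function.Bijective (α.baseChange ((maximalIdeal R).map (algebraMap R S)).ResidueField))
    (p : Ideal R) [p.IsPrime] :
    Function.Injective (((LocalizedModule.mkLinearMap ((maximalIdeal R).map (algebraMap R S)).primeCompl N).comp α
      |>.restrictScalars R).lTensor p.ResidueField) := by
  classical
  let ξ := (maximalIdeal R).map (algebraMap R S)
  let N₁ := LocalizedModule ξ.primeCompl N
  let ι : N →ₗ[S] N₁ := LocalizedModule.mkLinearMap ξ.primeCompl N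
  haveI : Module.Flat R N₁ := hflat
  -- a valuation ring of the residue field
  obtain ⟨V, hV, hloc⟩ := IsLocalRing.exists_factor_valuationRing (algebraMap R p.ResidueField)
  letI : Algebra R V := ((algebraMap R p.ResidueField).codRestrict V.toSubring hV).toAlgebra
  haveI : IsScalarTower R V p.ResidueField := IsScalarTower.of_algebraMap_eq fun x => rfl
  haveI : IsLocalHom (algebraMap R V) := hloc
  let A := V ⊗[R] S
  haveI : Algebra.Smooth V A := inferInstanceAs (Algebra.Smooth V (V ⊗[R] S))
  let ξV := (maximalIdeal V).map (algebraMap V A)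
  haveI hξV : ξV.IsPrime := isPrime_map_maximalIdeal (isDomain_fiber_of_smooth (geomIrredFibres_baseChange V hS) _)
  -- the image of the complement of `ξ`
  have hnotmem : ∀ s : S, s ∉ ξ → algebraMap S A s ∉ ξV := by
    intro s hs hmem
    let k := ResidueField V
    let g : A →ₐ[R] k ⊗[R] S := Algebra.TensorProduct.map (IsScalarTower.toAlgHom R V k) (AlgHom.id R S)
    have hker : ξV ≤ RingHom.ker g.toRingHom := Ideal.map_le_iff_le_comap.2 fun v hv => by
      show g (v ⊗ₜ[R] (1 : S)) = 0
      rw [Algebra.TensorProduct.map_tmul, show IsScalarTower.toAlgHom R V k v = 0 from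
        (IsLocalRing.residue_eq_zero_iff v).2 hv, TensorProduct.zero_tmul]
    have h0 : (1 : k) ⊗ₜ[R] s = 0 := by
      have h := hker hmem
      rw [RingHom.mem_ker] at h
      rw [← h]
      show _ = g ((1 : V) ⊗ₜ[R] s)
      rw [Algebra.TensorProduct.map_tmul, map_one]
      rfl
    let j : (R ⧸ maximalIdeal R) →ₗ[R] k := Submodule.liftQ _ (Algebra.linearMap R k) fun x hx => by
      show algebraMap R k x = 0
      rw [IsScalarTower.algebraMap_apply R V k]
      exact (IsLocalRing.residue_eq_zero_iff _).2
        ((IsLocalRing.mem_maximalIdeal _).2 fun hu => (IsLocalRing.mem_maximalIdeal _).1 hx (hu.of_map (algebraMap R V)))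
    have hj : Function.Injective j := by
      rw [injective_iff_map_eq_zero]
      intro x hx
      obtain ⟨x, rfl⟩ := Submodule.mkQ_surjective _ x
      refine (Submodule.Quotient.mk_eq_zero _).2 ((IsLocalRing.mem_maximalIdeal _).2 fun hu => ?_)
      exact (hu.map (algebraMap R k)).ne_zero hx
    refine hs ?_
    have h1 : ((Ideal.Quotient.mk (maximalIdeal R) 1 : R ⧸ maximalIdeal R)) ⊗ₜ[R] s = 0 := by
      refine Module.Flat.rTensor_preserves_injective_linearMap (M := S) j hj ?_
      rw [map_zero, LinearMap.rTensor_tmul, ← h0]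
      congr 1
      show algebraMap R k 1 = 1
      exact map_one _
    rw [map_one] at h1
    refine Ideal.Quotient.eq_zero_iff_mem.1
      ((Algebra.TensorProduct.quotIdealMapEquivQuotTensor S (maximalIdeal R)).injective ?_)
    rw [map_zero, ← h1]
    rfl
  -- the module
  let M := A ⊗[S] N₁
  let eM : M ≃ₗ[V] V ⊗[R] N₁ := Algebra.IsPushout.cancelBaseChange R V S A N₁
  haveI : Module.Flat V M := Module.Flat.of_linearEquiv eM
  let αT : (Fin r → S) →ₗ[S] N₁ := ι ∘ₗ α
  let u : Fin r → M := fun i => (1 : A) ⊗ₜ[S] αT (Pi.single i 1)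
  -- the coordinates in the residue field
  let bc := LinearEquiv.ofBijective (α.baseChange ξ.ResidueField) hα
  let π₀ : N →ₗ[S] (Fin r → ξ.ResidueField) :=
    ((TensorProduct.piScalarRight S ξ.ResidueField ξ.ResidueField (Fin r)).toLinearMap ∘ₗ bc.symm.toLinearMap).restrictScalars S ∘ₗ
      TensorProduct.mk S ξ.ResidueField N 1
  have hπ₀ : ∀ i, π₀ (α (Pi.single i 1)) = Pi.single i 1 := fun i => by
    show TensorProduct.piScalarRight S ξ.ResidueField ξ.ResidueField (Fin r) (bc.symm (1 ⊗ₜ α (Pi.single i 1))) = _
    rw [show (1 : ξ.ResidueField) ⊗ₜ[S] α (Pi.single i 1) = bc (1 ⊗ₜ Pi.single i 1) from rfl, LinearEquiv.symm_apply_apply]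
    ext j
    simp [Pi.single_apply]
  have hcomap : ξ = ξV.comap (algebraMap S A) := le_antisymm
    (Ideal.map_le_iff_le_comap.2 fun x hx => by
      show algebraMap S A (algebraMap R S x) ∈ ξV
      rw [← IsScalarTower.algebraMap_apply R S A, IsScalarTower.algebraMap_apply R V A]
      exact Ideal.mem_map_of_mem _
        ((IsLocalRing.mem_maximalIdeal _).2 fun hu => (IsLocalRing.mem_maximalIdeal _).1 hx (hu.of_map (algebraMap R V))))
    (fun s hs => by_contra fun h => hnotmem s h hs)
  let θ : ξ.ResidueField →ₐ[S] ξV.ResidueField := Ideal.ResidueField.mapₐ ξ ξV (Algebra.ofId S A) hcomap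
  let π₁ : N →ₗ[S] (Fin r → ξV.ResidueField) := (LinearMap.pi fun i => θ.toLinearMap ∘ₗ LinearMap.proj i) ∘ₗ π₀
  have hunit : ∀ s : ξ.primeCompl, IsUnit (algebraMap S (Module.End S (Fin r → ξV.ResidueField)) s) := fun s => by
    refine (Module.End.isUnit_iff _).2 ?_
    have hs : algebraMap S ξV.ResidueField s ≠ 0 := fun h => hnotmem s s.2 (by
      rw [IsScalarTower.algebraMap_apply S A ξV.ResidueField, Ideal.algebraMap_residueField_eq_zero] at h
      exact h)
    refine ⟨fun x y h => funext fun j => mul_left_cancel₀ hs ?_,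
      fun y => ⟨fun j => (algebraMap S ξV.ResidueField s)⁻¹ * y j, funext fun j => ?_⟩⟩
    · simpa [Algebra.smul_def] using congrFun h j
    · simp [Algebra.smul_def, mul_inv_cancel_left₀ hs]
  let π : M →ₗ[A] (Fin r → ξV.ResidueField) := LinearMap.liftBaseChange A (IsLocalizedModule.lift ξ.primeCompl ι π₁ hunit)
  have hπ : ∀ i, π (u i) = Pi.single i 1 := fun i => by
    show LinearMap.liftBaseChange A _ ((1 : A) ⊗ₜ[S] ι (α (Pi.single i 1))) = _
    rw [LinearMap.liftBaseChange_tmul, one_smul, IsLocalizedModule.lift_apply]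
    ext j
    show θ (π₀ (α (Pi.single i 1)) j) = _
    rw [hπ₀, Pi.single_apply, Pi.single_apply]
    split <;> simp
  have hspan : ∀ m : M, ∃ s : A, s ∉ ξV ∧ s • m ∈ Submodule.span A (Set.range u) := by
    intro m
    induction m using TensorProduct.induction_on with
    | zero => exact ⟨1, fun h => hξV.ne_top ((Ideal.eq_top_iff_one _).2 h), by rw [smul_zero]; exact zero_mem _⟩
    | add x y hx hy =>
      obtain ⟨s, hs, hsx⟩ := hx
      obtain ⟨t, ht, hty⟩ := hy
      refine ⟨s * t, fun h => (hξV.mem_or_mem h).elim hs ht, ?_⟩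
      rw [smul_add, mul_comm, mul_smul, mul_comm, mul_smul]
      exact add_mem (Submodule.smul_mem _ _ hsx) (Submodule.smul_mem _ _ hty)
    | tmul b x =>
      obtain ⟨⟨n, t⟩, hnt⟩ := IsLocalizedModule.surj ξ.primeCompl ι x
      obtain ⟨s, hs, v, hv⟩ := exists_smul_mem_range (α := α) hα n
      refine ⟨algebraMap S A (s * (t : S)), hnotmem _ fun h => (hξ.mem_or_mem h).elim hs t.2, ?_⟩
      rw [algebraMap_smul, ← TensorProduct.tmul_smul, mul_smul,
        show (t : S) • x = ι n from hnt, ← map_smul, ← hv, show ι (α v) = αT v from rfl, pi_eq_sum_univ' v, map_sum,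
        TensorProduct.tmul_sum]
      refine Submodule.sum_mem _ fun i _ => ?_
      rw [map_smul, show b ⊗ₜ[S] (v i • αT (Pi.single i 1)) = (b * algebraMap S A (v i)) • u i by
        show _ = (b * algebraMap S A (v i)) • ((1 : A) ⊗ₜ[S] αT (Pi.single i 1))
        rw [TensorProduct.smul_tmul', smul_eq_mul, mul_one, ← TensorProduct.smul_tmul, Algebra.smul_def, mul_comm]]
      exact Submodule.smul_mem _ _ (Submodule.subset_span ⟨i, rfl⟩)
  -- injectivity
  rw [injective_iff_map_eq_zero]
  intro z hz
  change (αT.restrictScalars R).lTensor p.ResidueField z = 0 at hz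
  obtain ⟨c, z', hc, hcz⟩ := exists_smul_eq_rTensor (V := V) z
  let jV := (IsScalarTower.toAlgHom R V p.ResidueField).toLinearMap
  have hjV : Function.Injective jV := IsFractionRing.injective V p.ResidueField
  have hz' : (αT.restrictScalars R).lTensor V z' = 0 := by
    refine Module.Flat.rTensor_preserves_injective_linearMap (M := N₁) jV hjV ?_
    rw [map_zero, ← LinearMap.comp_apply, LinearMap.rTensor_comp_lTensor, ← LinearMap.lTensor_comp_rTensor,
      LinearMap.comp_apply, ← hcz, show ((αT.restrictScalars R).lTensor p.ResidueField) (algebraMap V p.ResidueField c • z) =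
        algebraMap V p.ResidueField c • (αT.restrictScalars R).lTensor p.ResidueField z from
        ((αT.restrictScalars R).baseChange p.ResidueField).map_smul _ z, hz, smul_zero]
  let a : Fin r → A := TensorProduct.piRight R V V (fun _ : Fin r => S) z'
  have key : ∀ w : V ⊗[R] (Fin r → S), ∑ i, (TensorProduct.piRight R V V (fun _ : Fin r => S) w) i • u i =
      eM.symm ((αT.restrictScalars R).lTensor V w) := by
    intro w
    induction w using TensorProduct.induction_on with
    | zero => simp
    | add x y hx hy => simp only [map_add, Pi.add_apply, add_smul, Finset.sum_add_distrib, hx, hy]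
    | tmul v x =>
      rw [LinearMap.lTensor_tmul, Algebra.IsPushout.cancelBaseChange_symm_tmul, LinearMap.restrictScalars_apply]
      conv_rhs => rw [pi_eq_sum_univ' x, map_sum, TensorProduct.tmul_sum]
      refine Finset.sum_congr rfl fun i _ => ?_
      rw [map_smul, TensorProduct.piRight_apply, TensorProduct.piRightHom_tmul]
      show (v ⊗ₜ[R] x i : A) • ((1 : A) ⊗ₜ[S] αT (Pi.single i 1)) = _
      rw [TensorProduct.smul_tmul', smul_eq_mul, mul_one, ← TensorProduct.smul_tmul, Algebra.smul_def]
      congr 1
      show _ = ((1 : V) ⊗ₜ[R] x i) * (v ⊗ₜ[R] (1 : S))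
      rw [Algebra.TensorProduct.tmul_mul_tmul, one_mul, mul_one]
  have ha : ∑ i, a i • u i = 0 := by rw [key, hz', map_zero]
  haveI := isDomain_fiber_of_smooth hS p
  let φ : A →ₐ[R] p.Fiber S :=
    Algebra.TensorProduct.map (IsScalarTower.toAlgHom R V p.ResidueField) (AlgHom.id R S)
  have hφ : Function.Injective φ := Module.Flat.rTensor_preserves_injective_linearMap (M := S) jV hjV
  have ha0 : ∀ i, a i = 0 := fun i => by
    obtain ⟨s, hs, hsa⟩ := eq_zero_near_of_relation (V := V) ξV rfl M u π hπ hspan a ha i
    have h := congrArg φ hsa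
    rw [map_mul, map_zero] at h
    exact hφ (((mul_eq_zero.1 h).resolve_left fun h0 => hs (by rw [hφ (h0.trans (map_zero φ).symm)]; exact zero_mem _)).trans
      (map_zero φ).symm)
  have : z' = 0 := (TensorProduct.piRight R V V (fun _ : Fin r => S)).injective (by rw [map_zero]; exact funext ha0)
  rw [this, map_zero] at hcz
  exact (smul_eq_zero.1 hcz).resolve_left hc

/-- Universal injectivity of the composite with the localisation. -/
theorem univInj_localized (hS : FlatCA.GeomIrredFibres R S)
    (hflat : FlatCA.FlatAt R ((maximalIdeal R).map (algebraMap R S)) N)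
    (hα : Function.Bijective (α.baseChange ((maximalIdeal R).map (algebraMap R S)).ResidueField)) :
    FlatCA.UnivInj R (((LocalizedModule.mkLinearMap ((maximalIdeal R).map (algebraMap R S)).primeCompl N).comp α).restrictScalars R) := by
  intro Q _ _
  haveI : Module.Flat R (LocalizedModule ((maximalIdeal R).map (algebraMap R S)).primeCompl N) := hflat
  haveI : IsLocalization (⊥ : Submonoid S) S :=
    IsLocalization.self bot_le
  haveI : Module.Flat R (Fin r → S) := Module.Flat.of_linearEquiv (DirectSum.linearEquivFunOnFintype R (Fin r) (fun _ => S)).symm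
  exact FlatFibInj.injective_lTensor_of_fibres (B := S) (L := S) ⊥ _
    (fun p _ => injective_lTensor_residueField hS hflat hα p) Q

end Groth.Agent.RG4
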