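import Groth.Agent.Lib.RG4.Valuation

/-!
# Independence at the generic point of the closed fibre over a valuation ring
-/

set_option autoImplicit false

universe u

open IsLocalRing

namespace Groth.Agent.RG4

/-- Standard smooth neighbourhood as an étale algebra over a polynomial ring. -/
theorem exists_localization_unramified {V A : Type u} [CommRing V] [CommRing A] [Algebra V A] [Algebra.Smooth V A]
    (ξ : Ideal A) [ξ.IsPrime] :
    ∃ (n : ℕ) (_ : Algebra (MvPolynomial (Fin n) V) (Localization.AtPrime ξ)),
      IsScalarTower V (MvPolynomial (Fin n) V) (Localization.AtPrime ξ) ∧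
      Algebra.FormallyUnramified (MvPolynomial (Fin n) V) (Localization.AtPrime ξ) ∧
      Algebra.EssFiniteType (MvPolynomial (Fin n) V) (Localization.AtPrime ξ) ∧
      Module.Flat (MvPolynomial (Fin n) V) (Localization.AtPrime ξ) := by
  obtain ⟨g, hg, hsm⟩ := Algebra.IsSmoothAt.exists_notMem_isStandardSmooth V (S := A) ξ
  let Ag := Localization.Away g
  let B := Localization.AtPrime ξ
  obtain ⟨n, φ, hφC, hφ⟩ := RingHom.IsStandardSmooth.exists_etale_mvPolynomial
    (f := algebraMap V Ag) (RingHom.isStandardSmooth_algebraMap.2 hsm)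
  have hu : IsUnit (algebraMap A B g) := IsLocalization.map_units B (⟨g, hg⟩ : ξ.primeCompl)
  letI iAgB : Algebra Ag B := (IsLocalization.Away.lift (S := Ag) g hu).toAlgebra
  haveI : IsScalarTower A Ag B := IsScalarTower.of_algebraMap_eq fun a =>
    (IsLocalization.Away.lift_eq g hu a).symm
  letI : Algebra (MvPolynomial (Fin n) V) Ag := φ.toAlgebra
  haveI : Algebra.Etale (MvPolynomial (Fin n) V) Ag := hφ
  letI iPB : Algebra (MvPolynomial (Fin n) V) B := ((algebraMap Ag B).comp φ).toAlgebra
  haveI : IsScalarTower (MvPolynomial (Fin n) V) Ag B := IsScalarTower.of_algebraMap_eq' rfl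
  haveI : IsScalarTower V Ag B := IsScalarTower.of_algebraMap_eq fun v => by
    rw [IsScalarTower.algebraMap_apply V A B, IsScalarTower.algebraMap_apply V A Ag,
      ← IsScalarTower.algebraMap_apply A Ag B]
  haveI : Algebra.FormallyUnramified A B := Algebra.FormallyUnramified.of_isLocalization ξ.primeCompl
  haveI : Algebra.EssFiniteType A B := Algebra.EssFiniteType.of_isLocalization B ξ.primeCompl
  haveI : Algebra.FormallyUnramified Ag B := Algebra.FormallyUnramified.of_restrictScalars A Ag B
  haveI : Algebra.EssFiniteType Ag B := Algebra.EssFiniteType.of_comp A Ag B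
  haveI : Module.Flat Ag B := (Module.flat_iff_of_isLocalization Ag (Submonoid.powers g) B).2
    (IsLocalization.flat B ξ.primeCompl)
  refine ⟨n, iPB, IsScalarTower.of_algebraMap_eq fun v => ?_, ?_, ?_, ?_⟩
  · show _ = algebraMap Ag B (φ (MvPolynomial.C v))
    rw [show φ (MvPolynomial.C v) = algebraMap V Ag v from RingHom.congr_fun hφC v,
      ← IsScalarTower.algebraMap_apply]
  · exact Algebra.FormallyUnramified.comp _ Ag B
  · exact Algebra.EssFiniteType.comp _ Ag B
  · exact Module.Flat.trans _ Ag B

variable {V : Type u} [CommRing V] [IsDomain V] [ValuationRing V]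

/-- Elements generating near `ξ` and independent in the residue field are independent near `ξ`. -/
theorem eq_zero_near_of_relation {A : Type u} [CommRing A] [Algebra V A] [Algebra.Smooth V A]
    (ξ : Ideal A) [ξ.IsPrime] (hξ : ξ = (maximalIdeal V).map (algebraMap V A))
    (M : Type u) [AddCommGroup M] [Module A M] [Module V M] [IsScalarTower V A M] [Module.IsTorsionFree V M]
    {r : ℕ} (u : Fin r → M) (π : M →ₗ[A] (Fin r → ξ.ResidueField)) (hπ : ∀ i, π (u i) = Pi.single i 1)
    (hspan : ∀ m : M, ∃ s : A, s ∉ ξ ∧ s • m ∈ Submodule.span A (Set.range u))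
    (a : Fin r → A) (ha : ∑ i, a i • u i = 0) (i : Fin r) : ∃ s : A, s ∉ ξ ∧ s * a i = 0 := by
  classical
  let B := Localization.AtPrime ξ
  obtain ⟨n, iPB, htow, hunr, hess, hflat⟩ := exists_localization_unramified (V := V) ξ
  have hmax : maximalIdeal B = (maximalIdeal V).map (algebraMap V B) := by
    rw [← Localization.AtPrime.map_eq_maximalIdeal, IsScalarTower.algebraMap_eq V A B, ← Ideal.map_map]
    exact congrArg (Ideal.map (algebraMap A B)) hξ
  let L := LocalizedModule ξ.primeCompl M
  let ι : M →ₗ[A] L := LocalizedModule.mkLinearMap ξ.primeCompl M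
  haveI : IsScalarTower V A L := inferInstance
  haveI : IsScalarTower V B L := IsScalarTower.of_algebraMap_smul fun c x => by
    rw [IsScalarTower.algebraMap_apply V A B, algebraMap_smul, algebraMap_smul]
  haveI : Module.IsTorsionFree V L := Module.isTorsionFree_iff_smul_eq_zero.2 fun c x hcx => by
    by_cases hc : c = 0
    · exact Or.inl hc
    refine Or.inr ?_
    obtain ⟨⟨m, s⟩, hms⟩ := IsLocalizedModule.surj ξ.primeCompl ι x
    simp only at hms
    have h0 : ι (c • m) = 0 := by
      rw [← algebraMap_smul A c m, map_smul, ← hms, smul_comm, algebraMap_smul, hcx, smul_zero]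
    obtain ⟨t, ht⟩ := (IsLocalizedModule.eq_zero_iff ξ.primeCompl ι).1 h0
    rw [smul_comm] at ht
    have hm : ι m = 0 := (IsLocalizedModule.eq_zero_iff ξ.primeCompl ι).2
      ⟨t, (smul_eq_zero.1 ht).resolve_left hc⟩
    exact (IsLocalizedModule.map_units ι s).smul_left_cancel.1 (hms.trans (hm.trans (smul_zero _).symm))
  let uB : (Fin r → B) →ₗ[B] L := Fintype.linearCombination B fun i => ι (u i)
  have huB : Function.Surjective uB := by
    intro x
    obtain ⟨⟨m, s⟩, hms⟩ := IsLocalizedModule.surj ξ.primeCompl ι x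
    simp only at hms
    obtain ⟨t, ht, hmem⟩ := hspan m
    rw [Submodule.mem_span_range_iff_exists_fun] at hmem
    obtain ⟨c, hc⟩ := hmem
    let v : B := IsLocalization.mk' B 1 (⟨t, ht⟩ * s : ξ.primeCompl)
    refine ⟨fun i => v * algebraMap A B (c i), ?_⟩
    rw [Fintype.linearCombination_apply]
    simp only [mul_smul, ← Finset.smul_sum, algebraMap_smul, ← map_smul, ← map_sum, hc]
    rw [map_smul, ← hms, Submonoid.smul_def, ← mul_smul, ← algebraMap_smul B (t * (s : A)) x, ← mul_smul,
      show v * algebraMap A B (t * (s : A)) = 1 from (IsLocalization.mk'_spec B 1 _).trans (map_one _), one_smul]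
  haveI : Module.Finite B L := Module.Finite.of_surjective uB huB
  haveI : Module.Free B L := free_of_unramified_polynomial (V := V) (n := n) (B := B) (N := L) hmax
  obtain ⟨σ, hσ⟩ := Module.projective_lifting_property uB (LinearMap.id : L →ₗ[B] L) huB
  -- the kernel is a direct summand inside `m B^r`
  let K := LinearMap.ker uB
  let e : (Fin r → B) →ₗ[B] (Fin r → B) := LinearMap.id - σ ∘ₗ uB
  have heK : ∀ x, e x ∈ K := fun x => by
    show uB (x - σ (uB x)) = 0
    rw [map_sub, ← LinearMap.comp_apply, hσ, LinearMap.id_apply, sub_self]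
  have he : ∀ x ∈ K, e x = x := fun x hx => by
    show x - σ (uB x) = x
    rw [show uB x = 0 from hx, map_zero, sub_zero]
  have hKe : K = LinearMap.range e := le_antisymm (fun x hx => ⟨x, he x hx⟩) (by rintro _ ⟨x, rfl⟩; exact heK x)
  have hunit : ∀ s : ξ.primeCompl, IsUnit (algebraMap A (Module.End A (Fin r → ξ.ResidueField)) s) := fun s => by
    refine (Module.End.isUnit_iff _).2 ?_
    have hs : algebraMap A ξ.ResidueField s ≠ 0 := fun h => s.2 (Ideal.algebraMap_residueField_eq_zero.1 h)
    refine ⟨fun x y h => funext fun j => mul_left_cancel₀ hs ?_,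
      fun y => ⟨fun j => (algebraMap A ξ.ResidueField s)⁻¹ * y j, funext fun j => ?_⟩⟩
    · simpa [Algebra.smul_def] using congrFun h j
    · simp [Algebra.smul_def, mul_inv_cancel_left₀ hs]
  let πL : L →ₗ[A] (Fin r → ξ.ResidueField) := IsLocalizedModule.lift ξ.primeCompl ι π hunit
  have hπL : ∀ m, πL (ι m) = π m := fun m => IsLocalizedModule.lift_apply ξ.primeCompl ι π hunit m
  have hres : ∀ x ∈ K, ∀ j, x j ∈ maximalIdeal B := by
    intro x hx j
    obtain ⟨c, hc⟩ : ∃ c : ξ.primeCompl, ∀ i, IsLocalization.IsInteger A ((c : A) • x i) := by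
      obtain ⟨c, hc⟩ := IsLocalization.exist_integer_multiples_of_finite ξ.primeCompl x
      exact ⟨c, hc⟩
    choose b hb using hc
    have h0 : ∑ i, b i • u i ∈ LinearMap.ker π := by
      show π _ = 0
      rw [← hπL, map_sum, show ∑ i, ι (b i • u i) = uB ((c : A) • x) from ?_]
      · rw [LinearMap.map_smul_of_tower, show uB x = 0 from hx, smul_zero, map_zero]
      · rw [Fintype.linearCombination_apply]
        refine Finset.sum_congr rfl fun i _ => ?_
        rw [map_smul, Pi.smul_apply, ← hb i, algebraMap_smul]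
    rw [LinearMap.mem_ker, map_sum] at h0
    have hj := congrFun h0 j
    simp [hπ, Pi.single_apply, Algebra.smul_def] at hj
    have hbj : algebraMap A B (b j) ∈ maximalIdeal B :=
      (IsLocalization.AtPrime.to_map_mem_maximal_iff B ξ (b j)).2 hj
    rw [hb j, Algebra.smul_def] at hbj
    exact ((maximalIdeal.isMaximal B).isPrime.mem_or_mem hbj).resolve_left fun h =>
      c.2 ((IsLocalization.AtPrime.to_map_mem_maximal_iff B ξ c).1 h)
  have hK0 : K = ⊥ := by
    refine Submodule.eq_bot_of_le_smul_of_le_jacobson_bot (maximalIdeal B) K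
      (by rw [hKe, LinearMap.range_eq_map]; exact Module.Finite.fg_top.map e) (fun x hx => ?_) (IsLocalRing.maximalIdeal_le_jacobson _)
    rw [← he x hx, pi_eq_sum_univ x, map_sum]
    refine Submodule.sum_mem _ fun j _ => ?_
    rw [map_smul]
    exact Submodule.smul_mem_smul (hres x hx j) (heK _)
  have hax : (fun i => algebraMap A B (a i)) ∈ K := by
    show uB _ = 0
    rw [Fintype.linearCombination_apply]
    simp only [algebraMap_smul, ← map_smul, ← map_sum, ha, map_zero]
  rw [hK0, Submodule.mem_bot] at hax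
  obtain ⟨s, hs⟩ := (IsLocalization.map_eq_zero_iff ξ.primeCompl B (a i)).1 (congrFun hax i)
  exact ⟨s, s.2, hs⟩

end Groth.Agent.RG4
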