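import Mathlib

/-!
# Flat modules over étale algebras over polynomial rings over valuation rings

A finite module, flat over a valuation ring `V`, over a local ring `B` which is unramified and flat over
`V[x]` and has maximal ideal `m B`, is free.
-/

set_option autoImplicit false

universe u

open IsLocalRing

namespace Groth.Agent.RG4

variable {V : Type u} [CommRing V] [IsDomain V] [ValuationRing V]

/-- Every nonzero polynomial over a valuation ring is a constant times a primitive one. -/
theorem exists_eq_C_mul {σ : Type*} (w : MvPolynomial σ V) (hw : w ≠ 0) :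
    ∃ (c : V) (w' : MvPolynomial σ V), c ≠ 0 ∧
      w' ∉ (maximalIdeal V).map (MvPolynomial.C (σ := σ)) ∧ w = MvPolynomial.C c * w' := by
  classical
  let I : Ideal V := Ideal.span (w.coeffs : Set V)
  have hI : I.FG := ⟨w.coeffs, rfl⟩
  obtain ⟨c, hc⟩ := (IsBezout.isPrincipal_of_FG I hI).principal
  have hmem : ∀ μ, w.coeff μ ∈ I := fun μ => by
    by_cases h : w.coeff μ = 0
    · rw [h]; exact zero_mem _
    · exact Ideal.subset_span (Finset.mem_coe.2 (MvPolynomial.coeff_mem_coeffs μ h))
  have hdvd : MvPolynomial.C c ∣ w := (MvPolynomial.C_dvd_iff_dvd_coeff c w).2 fun μ => by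
    have := hmem μ
    rw [hc, Ideal.submodule_span_eq, Ideal.mem_span_singleton] at this
    exact this
  obtain ⟨w', hw'⟩ := hdvd
  have hc0 : c ≠ 0 := fun h => hw (by rw [hw', h, map_zero, zero_mul])
  refine ⟨c, w', hc0, fun hmem' => ?_, hw'⟩
  rw [MvPolynomial.mem_map_C_iff] at hmem'
  have hle : I ≤ (maximalIdeal V) * Ideal.span {c} := by
    refine Ideal.span_le.2 fun x hx => ?_
    obtain ⟨μ, -, rfl⟩ := MvPolynomial.mem_coeffs_iff.1 (Finset.mem_coe.1 hx)
    rw [hw', MvPolynomial.coeff_C_mul, mul_comm c]
    exact Ideal.mul_mem_mul (hmem' μ) (Ideal.mem_span_singleton_self c)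
  have hcI : c ∈ I := by rw [hc]; exact Submodule.mem_span_singleton_self c
  obtain ⟨e, he, hec⟩ := Ideal.mem_mul_span_singleton.1 (hle hcI)
  have he1 : e = 1 := mul_right_cancel₀ hc0 (hec.trans (one_mul c).symm)
  exact (maximalIdeal.isMaximal V).ne_top ((Ideal.eq_top_iff_one _).2 (he1 ▸ he))

/-- The key freeness statement. -/
theorem free_of_unramified_polynomial {n : ℕ} {B N : Type u} [CommRing B] [IsLocalRing B]
    [Algebra V B] [Algebra (MvPolynomial (Fin n) V) B] [IsScalarTower V (MvPolynomial (Fin n) V) B]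
    [Algebra.FormallyUnramified (MvPolynomial (Fin n) V) B] [Algebra.EssFiniteType (MvPolynomial (Fin n) V) B]
    [Module.Flat (MvPolynomial (Fin n) V) B]
    (hmax : maximalIdeal B = (maximalIdeal V).map (algebraMap V B))
    [AddCommGroup N] [Module B N] [Module.Finite B N] [Module V N] [IsScalarTower V B N] [Module.IsTorsionFree V N] :
    Module.Free B N := by
  let P := MvPolynomial (Fin n) V
  let η : Ideal P := (maximalIdeal V).map (MvPolynomial.C (σ := Fin n))
  haveI hη : η.IsPrime := by
    haveI : IsDomain (P ⧸ η) :=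
      (MvPolynomial.quotientEquivQuotientMvPolynomial (σ := Fin n) (maximalIdeal V)).symm.toMulEquiv.isDomain _
    exact (Ideal.Quotient.isDomain_iff_prime η).1 this
  have hηle : η ≤ (maximalIdeal B).comap (algebraMap P B) := by
    rw [← Ideal.map_le_iff_le_comap, Ideal.map_map, hmax]
    exact le_of_eq (congrArg (fun f => Ideal.map f (maximalIdeal V)) (IsScalarTower.algebraMap_eq V P B).symm)
  have hcomap : (maximalIdeal B).comap (algebraMap P B) = η := by
    set Q0 := (maximalIdeal B).comap (algebraMap P B)
    haveI : (maximalIdeal B).LiesOver Q0 := ⟨rfl⟩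
    obtain ⟨Q, hQle, hQp, hQ⟩ := Ideal.exists_ideal_le_liesOver_of_le (maximalIdeal B) (p := η) (q := Q0) hηle
    have hmQ : maximalIdeal B ≤ Q := by
      rw [hmax, IsScalarTower.algebraMap_eq V P B, ← Ideal.map_map, Ideal.map_le_iff_le_comap]
      exact le_of_eq hQ.over
    rw [show Q0 = Q.comap (algebraMap P B) by rw [le_antisymm hQle hmQ]]
    exact hQ.over.symm
  let W := Localization.AtPrime η
  have hunit : ∀ y : η.primeCompl, IsUnit (algebraMap P B y) := fun y => by
    by_contra h
    refine y.2 ?_
    have h' : (y : P) ∈ (maximalIdeal B).comap (algebraMap P B) := (IsLocalRing.mem_maximalIdeal _).2 h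
    exact hcomap.le h'
  letI : Algebra W B := (IsLocalization.lift (M := η.primeCompl) (S := W) hunit).toAlgebra
  haveI : IsScalarTower P W B := IsScalarTower.of_algebraMap_eq' (IsLocalization.lift_comp hunit).symm
  haveI : IsScalarTower V W B := IsScalarTower.of_algebraMap_eq' (by
    rw [IsScalarTower.algebraMap_eq V P W, ← RingHom.comp_assoc, ← IsScalarTower.algebraMap_eq P W B,
      ← IsScalarTower.algebraMap_eq V P B])
  haveI : IsDomain W := IsLocalization.isDomain_localization η.primeCompl_le_nonZeroDivisors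
  -- elements of `W` are constants times units
  have hW : ∀ a : W, a ≠ 0 → ∃ (c : V) (v : Wˣ), c ≠ 0 ∧ a = algebraMap V W c * v := by
    intro a ha
    obtain ⟨⟨w, s⟩, hws⟩ := IsLocalization.surj η.primeCompl a
    have hs : IsUnit (algebraMap P W s) := IsLocalization.map_units W s
    have hw : w ≠ 0 := fun h => ha (hs.mul_left_eq_zero.1 (hws.trans (by rw [h, map_zero])))
    obtain ⟨c, w', hc, hw', rfl⟩ := exists_eq_C_mul w hw
    have hu : IsUnit (algebraMap P W w') := IsLocalization.map_units W (⟨w', hw'⟩ : η.primeCompl)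
    refine ⟨c, hu.unit * hs.unit⁻¹, hc, ?_⟩
    rw [Units.val_mul, ← mul_assoc, Units.eq_mul_inv_iff_mul_eq, IsUnit.unit_spec, IsUnit.unit_spec]
    refine hws.trans ?_
    rw [map_mul, IsScalarTower.algebraMap_apply V P W]
    rfl
  haveI : ValuationRing W := ValuationRing.iff_dvd_total.2 ⟨fun a b => by
    by_cases ha : a = 0
    · exact Or.inr (ha ▸ dvd_zero b)
    by_cases hb : b = 0
    · exact Or.inl (hb ▸ dvd_zero a)
    obtain ⟨c, v, -, rfl⟩ := hW a ha
    obtain ⟨d, v', -, rfl⟩ := hW b hb
    rcases (ValuationRing.iff_dvd_total.1 (inferInstance : ValuationRing V)).total c d with h | h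
    · exact Or.inl ((Units.mul_right_dvd).2 ((Units.dvd_mul_right).2 (map_dvd _ h)))
    · exact Or.inr ((Units.mul_right_dvd).2 ((Units.dvd_mul_right).2 (map_dvd _ h)))⟩
  letI : Module W N := Module.compHom N (algebraMap W B)
  haveI : IsScalarTower W B N := ⟨fun a b x => by
    show (a • b) • x = algebraMap W B a • (b • x)
    rw [Algebra.smul_def, mul_smul]⟩
  haveI : IsScalarTower V W N := IsScalarTower.of_algebraMap_smul fun c x => by
    show algebraMap W B (algebraMap V W c) • x = c • x
    rw [← IsScalarTower.algebraMap_apply, algebraMap_smul]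
  haveI : Module.Flat W N := by
    rw [Module.Flat.flat_iff_torsion_eq_bot_of_isBezout, eq_bot_iff]
    rintro x ⟨⟨a, ha⟩, hax⟩
    obtain ⟨c, v, hc, rfl⟩ := hW a (nonZeroDivisors.ne_zero ha)
    have h1 : c • ((v : W) • x) = 0 := by
      rw [← algebraMap_smul W c, ← mul_smul]
      exact hax
    have h2 : (v : W) • x = 0 :=
      (smul_eq_zero.1 h1).resolve_left hc
    exact (Submodule.mem_bot W).2 ((Units.isUnit v).smul_eq_zero.1 h2)
  haveI : Algebra.FormallyUnramified W B := Algebra.FormallyUnramified.of_restrictScalars P W B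
  haveI : Algebra.EssFiniteType W B := Algebra.EssFiniteType.of_comp P W B
  haveI : Module.Flat B N := Algebra.FormallyUnramified.flat_of_restrictScalars W B N
  exact Module.free_of_flat_of_isLocalRing

end Groth.Agent.RG4
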